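import Cfsg.Agent.Lib.InvCentTwoNilp.Signalizer
import Cfsg.Agent.Lib.CIT.Syl

/-!
# Minimal groups for S3258: first properties

`π` is a set of primes containing `2`; the `π`-subgroups have normal Sylow 2-subgroups; `N(H) / C(H)` is a `π`-group
for `π`-subgroups `H`; in every proper subgroup the `π'`-elements form a subgroup.
-/

set_option autoImplicit false
set_option linter.unusedSectionVars false
set_option linter.style.haveILetI false

namespace CfsgLib.PiHomog

open Subgroup CfsgLib.CIT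
open CfsgLib.Signalizer (involution_sq involution_inv involution_ne_one orderOf_eq_two_of orderOf_conj)

/-- All prime divisors lie in `π`. -/
def PiNum (π : Set ℕ) (n : ℕ) : Prop := ∀ p : ℕ, p.Prime → p ∣ n → p ∈ π

/-- No prime divisor lies in `π`. -/
def CoNum (π : Set ℕ) (n : ℕ) : Prop := ∀ p : ℕ, p.Prime → p ∣ n → p ∉ π

variable {π : Set ℕ}

theorem PiNum.coprime {a b : ℕ} (ha : PiNum π a) (hb : CoNum π b) : a.Coprime b :=
  Nat.coprime_of_dvd' fun p hp h1 h2 => absurd (ha p hp h1) (hb p hp h2)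

theorem CoNum.of_dvd {a b : ℕ} (hb : CoNum π b) (h : a ∣ b) : CoNum π a :=
  fun p hp hpa => hb p hp (hpa.trans h)

theorem PiNum.of_dvd {a b : ℕ} (hb : PiNum π b) (h : a ∣ b) : PiNum π a :=
  fun p hp hpa => hb p hp (hpa.trans h)

theorem piNum_prime_pow {p k : ℕ} (hp : p.Prime) (h : p ∈ π) : PiNum π (p ^ k) :=
  fun r hr hd => by rwa [(Nat.prime_dvd_prime_iff_eq hr hp).1 (hr.dvd_of_dvd_pow hd)]

theorem coNum_one : CoNum π 1 := fun _ hp h => absurd (Nat.dvd_one.1 h) hp.ne_one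

theorem CoNum.odd {n : ℕ} (h2 : 2 ∈ π) (h : CoNum π n) : Odd n :=
  Nat.not_even_iff_odd.1 fun he => h 2 Nat.prime_two (even_iff_two_dvd.1 he) h2

/-- The `π'`-elements form a subgroup. -/
def Closed (π : Set ℕ) (G : Type*) [Group G] : Prop :=
  ∃ K : Subgroup G, ∀ x : G, x ∈ K ↔ CoNum π (orderOf x)

/-- All `π`-subgroups have normal Sylow 2-subgroups. -/
def TwoClosed (π : Set ℕ) (G : Type*) [Group G] : Prop :=
  ∀ H : Subgroup G, PiNum π (Nat.card ↥H) → ∀ P : Sylow 2 ↥H, (P : Subgroup ↥H).Normal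

/-- The automisers of `π`-subgroups are `π`-groups. -/
def Homog (π : Set ℕ) (G : Type*) [Group G] : Prop :=
  ∀ H : Subgroup G, H ≠ ⊥ → PiNum π (Nat.card ↥H) →
    PiNum π ((centralizer (H : Set G)).relIndex (normalizer (H : Set G)))

variable {G : Type*} [Group G]

/-- The subgroup generated by the `π'`-elements of `H`. -/
def pc (π : Set ℕ) (H : Subgroup G) : Subgroup G := closure {x | x ∈ H ∧ CoNum π (orderOf x)}

theorem pc_le (H : Subgroup G) : pc π H ≤ H := (closure_le H).2 fun _ hx => hx.1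

theorem mem_pc_of {H : Subgroup G} {x : G} (hx : x ∈ H) (h : CoNum π (orderOf x)) : x ∈ pc π H :=
  subset_closure ⟨hx, h⟩

theorem pc_cj (g : G) (H : Subgroup G) : cj g (pc π H) = pc π (cj g H) := by
  rw [CIT.cj, pc, MonoidHom.map_closure, pc]
  congr 1
  ext x
  constructor
  · rintro ⟨y, ⟨hy, ho⟩, rfl⟩
    exact ⟨mem_map_of_mem _ hy, by rwa [show (MulAut.conj g).toMonoidHom y = g * y * g⁻¹ from rfl, orderOf_conj]⟩
  · rintro ⟨⟨y, hy, rfl⟩, ho⟩
    exact ⟨y, ⟨hy, by rwa [show (MulAut.conj g).toMonoidHom y = g * y * g⁻¹ from rfl, orderOf_conj] at ho⟩, rfl⟩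

theorem normalizer_le_pc (H : Subgroup G) : normalizer (H : Set G) ≤ normalizer (pc π H : Set G) :=
  fun g hg => mem_normalizer_iff_cj.2 (by rw [pc_cj, mem_normalizer_iff_cj.1 hg])

/-- The standing hypotheses. -/
structure Min (π : Set ℕ) (G : Type*) [Group G] : Prop where
  two : 2 ∈ π
  hcl : TwoClosed π G
  hom : Homog π G
  na : ¬ IsMulCommutative G
  closed : ∀ H : Subgroup G, H ≠ ⊤ → Closed π ↥H

/-- The elements of square one of the centre of `S`. -/
def Vz (S : Subgroup G) : Subgroup G where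
  carrier := {x | x ∈ S ∧ x * x = 1 ∧ ∀ s ∈ S, s * x = x * s}
  one_mem' := ⟨one_mem S, one_mul 1, fun s _ => by rw [mul_one, one_mul]⟩
  mul_mem' := fun {a b} ha hb => ⟨mul_mem ha.1 hb.1, by
    calc a * b * (a * b) = a * (b * a) * b := by group
      _ = 1 := by rw [ha.2.2 b hb.1, ← mul_assoc, ha.2.1, one_mul, hb.2.1],
    fun s hs => by rw [← mul_assoc, ha.2.2 s hs, mul_assoc, hb.2.2 s hs, mul_assoc]⟩
  inv_mem' := fun {a} ha => ⟨inv_mem ha.1, by rw [← mul_inv_rev, ha.2.1, inv_one],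
    fun s hs => by rw [inv_eq_of_mul_eq_one_right ha.2.1]; exact ha.2.2 s hs⟩

theorem mem_Vz {S : Subgroup G} {x : G} :
    x ∈ Vz S ↔ x ∈ S ∧ x * x = 1 ∧ ∀ s ∈ S, s * x = x * s := Iff.rfl

theorem Vz_le (S : Subgroup G) : Vz S ≤ S := fun _ h => h.1

theorem Vz_elem (S : Subgroup G) : InvCent.Elem (Vz S) := fun _ h => h.2.1

variable [Finite G]

namespace Min

variable [IsSimpleGroup G] (h : Min π G)
include h

theorem even : Even (Nat.card G) := by
  by_contra ho
  have := Cfsg.Agent.S0205.result (Nat.not_even_iff_odd.1 ho)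
  rcases (inferInstance : (commutator G).Normal).eq_bot_or_eq_top with h' | h'
  · exact h.na ⟨⟨fun a b => mem_center_iff.1 (((commutator_eq_bot_iff_center_eq_top G).1 h') ▸ mem_top b) a⟩⟩
  · exact (Group.IsSolvable.commutator_lt_top_of_nontrivial G).ne h'

theorem center_eq_bot : center G = ⊥ :=
  (inferInstance : (center G).Normal).eq_bot_or_eq_top.resolve_right fun e =>
    h.na ⟨⟨fun a b => mem_center_iff.1 (e ▸ mem_top b) a⟩⟩

theorem cent_ne_top {x : G} (hx : x ≠ 1) : centralizer ({x} : Set G) ≠ ⊤ := fun e => by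
  refine hx (mem_bot.1 (h.center_eq_bot ▸ mem_center_iff.2 fun g => ?_))
  exact mem_centralizer_singleton_iff.1 (e ▸ mem_top g : g ∈ centralizer ({x} : Set G))

theorem normalizer_ne_top {X : Subgroup G} (h1 : X ≠ ⊥) (h2 : X ≠ ⊤) :
    normalizer (X : Set G) ≠ ⊤ := fun e =>
  ((normalizer_eq_top_iff.1 e).eq_bot_or_eq_top).elim h1 h2

theorem mem_pc {H : Subgroup G} (hH : H ≠ ⊤) {x : G} :
    x ∈ pc π H ↔ x ∈ H ∧ CoNum π (orderOf x) := by
  obtain ⟨K, hK⟩ := h.closed H hH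
  have hle : pc π H ≤ K.map H.subtype := (closure_le _).2 fun y hy =>
    ⟨⟨y, hy.1⟩, (hK _).2 (by rw [Subgroup.orderOf_mk]; exact hy.2), rfl⟩
  refine ⟨fun hx => ?_, fun hx => mem_pc_of hx.1 hx.2⟩
  obtain ⟨⟨y, hy⟩, hyK, rfl⟩ := hle hx
  exact ⟨hy, by simpa [Subgroup.orderOf_mk] using (hK _).1 hyK⟩

theorem co_pc {H : Subgroup G} (hH : H ≠ ⊤) : CoNum π (Nat.card (pc π H)) := by
  intro p hp hd
  haveI : Fact p.Prime := ⟨hp⟩
  obtain ⟨x, hx⟩ := exists_prime_orderOf_dvd_card' p hd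
  exact ((h.mem_pc hH).1 x.2).2 p hp (by rw [orderOf_coe, hx])

theorem odd_pc {H : Subgroup G} (hH : H ≠ ⊤) : Odd (Nat.card (pc π H)) := (h.co_pc hH).odd h.two

omit [IsSimpleGroup G] in
theorem inverted {w x : G} (hw : orderOf w = 2) (ho : Odd (orderOf x)) (hinv : w * x * w⁻¹ = x⁻¹) :
    CoNum π (orderOf x) := by
  intro p hp hd hpπ
  haveI : Fact p.Prime := ⟨hp⟩
  haveI : Fact (Nat.Prime 2) := ⟨Nat.prime_two⟩
  have hp2 : p ≠ 2 := fun e => by
    subst e
    exact absurd ho (Nat.not_odd_iff_even.2 (even_iff_two_dvd.2 hd))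
  set y := x ^ (orderOf x / p) with hy
  have hyo : orderOf y = p := by
    have hne : orderOf x / p ≠ 0 := (Nat.div_pos (Nat.le_of_dvd (orderOf_pos x) hd) hp.pos).ne'
    rw [hy, orderOf_pow_of_dvd hne (Nat.div_dvd_of_dvd hd), Nat.div_div_self hd (orderOf_pos x).ne']
  have hyinv : w * y * w⁻¹ = y⁻¹ := by rw [hy, ← conj_pow, hinv, inv_pow]
  have hn : zpowers w ≤ normalizer (zpowers y : Set G) := by
    rw [zpowers_le, mem_normalizer_iff_cj, CIT.cj, MonoidHom.map_zpowers]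
    show zpowers (w * y * w⁻¹) = _
    rw [hyinv, zpowers_inv]
  set H := zpowers w ⊔ zpowers y with hH
  have hcard : Nat.card H = 2 * p := by
    rw [hH, Core.card_sup_of_coprime _ _ hn, Nat.card_zpowers, Nat.card_zpowers, hw, hyo]
    rw [Nat.card_zpowers, Nat.card_zpowers, hw, hyo]
    exact (Nat.coprime_primes Nat.prime_two hp).2 (Ne.symm hp2)
  have hP2 : IsPGroup 2 ((zpowers w).subgroupOf H) := (IsPGroup.of_card (p := 2) (n := 1)
    (by rw [Nat.card_zpowers, hw, pow_one])).comap_of_injective _ (subtype_injective H)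
  have hnd : ¬ 2 ∣ ((zpowers w).subgroupOf H).index := by
    have h1 := ((zpowers w).subgroupOf H).card_mul_index
    rw [Nat.card_congr (subgroupOfEquivOfLe le_sup_left).toEquiv, hcard, Nat.card_zpowers, hw] at h1
    rw [Nat.eq_of_mul_eq_mul_left two_pos h1, Nat.prime_dvd_prime_iff_eq Nat.prime_two hp]
    exact Ne.symm hp2
  have hN : ((zpowers w).subgroupOf H).Normal := h.hcl H (fun r hr hrd => by
    rw [hcard] at hrd
    rcases hr.dvd_mul.1 hrd with e | e
    · rw [(Nat.prime_dvd_prime_iff_eq hr Nat.prime_two).1 e]; exact h.two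
    · rw [(Nat.prime_dvd_prime_iff_eq hr hp).1 e]; exact hpπ) (hP2.toSylow hnd)
  have h1 := hN.conj_mem ⟨w, mem_sup_left (mem_zpowers w)⟩ (mem_zpowers w)
    ⟨y, mem_sup_right (mem_zpowers y)⟩
  have h2 : y * w * y⁻¹ = w := by
    obtain ⟨k, hk⟩ := mem_zpowers_iff.1 (mem_subgroupOf.1 h1)
    have hk' : w ^ k = y * w * y⁻¹ := hk
    rcases Int.even_or_odd k with ⟨m, rfl⟩ | ⟨m, rfl⟩
    · rw [zpow_add, ← (Commute.refl w).mul_zpow, involution_sq hw, one_zpow] at hk'
      exact absurd (conj_eq_one_iff.1 hk'.symm) (involution_ne_one hw)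
    · rw [zpow_add_one, zpow_mul, zpow_two, involution_sq hw, one_zpow, one_mul] at hk'
      exact hk'.symm
  have h3 : y = y⁻¹ := by
    rw [← hyinv, ← mul_inv_eq_iff_eq_mul.1 h2, mul_inv_cancel_right]
  have : orderOf y ∣ 2 := orderOf_dvd_of_pow_eq_one (by rw [pow_two]; nth_rw 2 [h3]; exact mul_inv_cancel y)
  rw [hyo, Nat.prime_dvd_prime_iff_eq hp Nat.prime_two] at this
  exact hp2 this

/-- The Sylow 2-subgroups of a proper subgroup are conjugate under its `π'`-part. -/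
theorem sylow_conj_pc {H T T' : Subgroup G} (hH : H ≠ ⊤) (hT : IsSyl T H) (hT' : IsSyl T' H) :
    ∃ k ∈ pc π H, cj k T = T' := by
  classical
  haveI : Fact (Nat.Prime 2) := ⟨Nat.prime_two⟩
  set K := (pc π H).subgroupOf H with hKdef
  haveI : K.Normal := normal_subgroupOf_of_le_normalizer (le_normalizer.trans (normalizer_le_pc H))
  have hKc : Nat.card K = Nat.card (pc π H) := Nat.card_congr (subgroupOfEquivOfLe (pc_le H)).toEquiv
  have hidx : PiNum π K.index := by
    intro p hp hd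
    by_contra hpπ
    haveI : Fact p.Prime := ⟨hp⟩
    rw [index_eq_card] at hd
    obtain ⟨q, hq⟩ := exists_prime_orderOf_dvd_card' p hd
    obtain ⟨g, rfl⟩ := QuotientGroup.mk_surjective q
    obtain ⟨a, m, hm, he⟩ := Nat.exists_eq_pow_mul_and_not_dvd (orderOf_pos g).ne' p hp.ne_one
    have hm0 : m ≠ 0 := fun h0 => hm (by simp [h0])
    have hgK : g ^ m ∈ K := mem_subgroupOf.2 ((h.mem_pc hH).2 ⟨(g ^ m).2, by
      rw [orderOf_coe, orderOf_pow_of_dvd hm0 (he ▸ dvd_mul_left _ _), he,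
        Nat.mul_div_cancel _ (Nat.pos_of_ne_zero hm0)]
      intro r hr hrd
      rwa [(Nat.prime_dvd_prime_iff_eq hr hp).1 (hr.dvd_of_dvd_pow hrd)]⟩)
    have h1 : (g : ↥H ⧸ K) ^ m = 1 := by
      rw [← QuotientGroup.mk_pow]; exact (QuotientGroup.eq_one_iff _).2 hgK
    exact hm (hq ▸ orderOf_dvd_of_pow_eq_one h1)
  obtain ⟨R, hR⟩ := exists_right_complement'_of_coprime (N := K)
    (hidx.coprime (hKc ▸ h.co_pc hH)).symm
  have hRc : Nat.card (R.map H.subtype) = Nat.card R := card_map_of_injective (subtype_injective H)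
  have hRπ : PiNum π (Nat.card (R.map H.subtype)) := by
    rw [hRc, ← hR.symm.index_eq_card]; exact hidx
  obtain ⟨P⟩ : Nonempty (Sylow 2 ↥(R.map H.subtype)) := inferInstance
  have hPn := h.hcl _ hRπ P
  set T0 := (P : Subgroup ↥(R.map H.subtype)).map (R.map H.subtype).subtype with hT0
  have hT0H : T0 ≤ H := (map_subtype_le _).trans (map_subtype_le R)
  have hcardT0 : Nat.card T0 = 2 ^ (Nat.card H).factorization 2 := by
    rw [hT0, card_map_of_injective (subtype_injective _), P.card_eq_multiplicity, hRc, ← hR.card_mul_card,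
      Nat.factorization_mul Nat.card_pos.ne' Nat.card_pos.ne', Finsupp.add_apply, hKc,
      Nat.factorization_eq_zero_of_not_dvd (h.odd_pc hH).not_two_dvd_nat, zero_add]
  have hT0syl : IsSyl T0 H := by
    refine ⟨hT0H, P.2.map _, fun Q h1 h2 h3 => (eq_of_le_of_card_ge h1 ?_).symm⟩
    obtain ⟨n, hn⟩ := h3.exists_card_eq
    rw [hn, hcardT0]
    refine Nat.pow_le_pow_right two_pos ?_
    exact (Nat.prime_two.pow_dvd_iff_le_factorization Nat.card_pos.ne').1 (hn ▸ card_dvd_of_le h2)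
  have key : ∀ U, IsSyl U H → ∃ k ∈ pc π H, cj k T0 = U := by
    intro U hU
    obtain ⟨c, hc, hce⟩ := hT0syl.exists_conj hU
    obtain ⟨⟨⟨k, hk⟩, ⟨r, hr⟩⟩, hkr⟩ := hR.2 ⟨c, hc⟩
    have e : (k : G) * (r : G) = c := congrArg Subtype.val hkr
    refine ⟨k, mem_subgroupOf.1 hk, ?_⟩
    have hrn : (r : G) ∈ normalizer (T0 : Set G) := by
      have h1 : (⟨(r : G), r, hr, rfl⟩ : ↥(R.map H.subtype)) ∈ normalizer ((P : Subgroup ↥(R.map H.subtype)) : Set ↥(R.map H.subtype)) := by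
        rw [normalizer_eq_top_iff.2 hPn]; trivial
      exact le_normalizer_map (R.map H.subtype).subtype ⟨_, h1, rfl⟩
    rw [← hce, ← e, cj_mul, mem_normalizer_iff_cj.1 hrn]
  obtain ⟨k, hk, e⟩ := key T hT
  obtain ⟨k', hk', e'⟩ := key T' hT'
  exact ⟨k' * k⁻¹, mul_mem hk' (inv_mem hk), by rw [← e, ← cj_mul, inv_mul_cancel_right, e']⟩

/-- A 2-subgroup of a proper subgroup moves into a given Sylow subgroup under the `π'`-part. -/
theorem conj_into {H T P : Subgroup G} (hH : H ≠ ⊤) (hT : IsSyl T H) (hPH : P ≤ H) (hP : IsPGroup 2 P) :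
    ∃ k ∈ pc π H, cj k P ≤ T := by
  obtain ⟨T', hT', hle⟩ := exists_isSyl hPH hP
  obtain ⟨k, hk, e⟩ := h.sylow_conj_pc hH hT' hT
  exact ⟨k, hk, e ▸ cj_mono hle⟩

/-- Decomposition of a proper subgroup. -/
theorem exists_mul {H T : Subgroup G} (hH : H ≠ ⊤) (hT : IsSyl T H) {x : G} (hx : x ∈ H) :
    ∃ k ∈ pc π H, ∃ n ∈ H ⊓ normalizer (T : Set G), x = k * n := by
  obtain ⟨k, hk, e⟩ := h.sylow_conj_pc hH (hT.cj_of_mem (le_normalizer hx)) hT
  refine ⟨k⁻¹, inv_mem hk, k * x, ⟨mul_mem (pc_le H hk) hx, ?_⟩, by group⟩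
  rw [← cj_mul] at e
  exact mem_normalizer_iff_cj.2 e

/-- The `π'`-part of a proper subgroup centralises the 2-subgroups it normalises, if they lie in it. -/
theorem pc_centralizes {H R : Subgroup G} (hH : H ≠ ⊤) (hRH : R ≤ H) (hR : IsPGroup 2 R) {k : G}
    (hk : k ∈ pc π H) (hkR : k ∈ normalizer (R : Set G)) : k ∈ centralizer (R : Set G) := by
  refine mem_centralizer_iff.2 fun r hr => ?_
  have h1 : k * r * k⁻¹ * r⁻¹ ∈ pc π H := by
    rw [show k * r * k⁻¹ * r⁻¹ = k * (r * k⁻¹ * r⁻¹) by group]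
    exact mul_mem hk ((mem_normalizer_iff.1 ((le_normalizer.trans (normalizer_le_pc H)) (hRH hr)) _).1
      (inv_mem hk))
  have h2 : k * r * k⁻¹ * r⁻¹ ∈ R := mul_mem ((mem_normalizer_iff.1 hkR r).1 hr) (inv_mem hr)
  have h3 := eq_one_of_odd_of_pGroup hR h2 (((h.odd_pc hH)).of_dvd_nat (orderOf_dvd_natCard _ h1))
  exact (mul_inv_eq_iff_eq_mul.1 (mul_inv_eq_one.1 h3)).symm

omit [IsSimpleGroup G] in
/-- An element normalising but not centralising a `π`-subgroup has its prime in `π`. -/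
theorem mem_pi_of_moves {H : Subgroup G} (hH1 : H ≠ ⊥) (hH : PiNum π (Nat.card H)) {g : G}
    (hg : g ∈ normalizer (H : Set G)) (hc : g ∉ centralizer (H : Set G)) {p k : ℕ} (hp : p.Prime)
    (ho : orderOf g = p ^ k) : p ∈ π := by
  haveI : Fact p.Prime := ⟨hp⟩
  set N := normalizer (H : Set G) with hN
  haveI hnorm : ((centralizer (H : Set G)).subgroupOf N).Normal := by
    refine normal_subgroupOf_of_le_normalizer ?_
    intro n hn
    refine mem_normalizer_iff.2 fun x => ?_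
    constructor <;> intro hx <;> refine mem_centralizer_iff.2 fun r hr => ?_
    · have := mem_centralizer_iff.1 hx _ ((mem_normalizer_iff''.1 hn r).1 hr)
      calc r * (n * x * n⁻¹) = n * (n⁻¹ * r * n * x) * n⁻¹ := by group
        _ = n * x * n⁻¹ * r := by rw [this]; group
    · have := mem_centralizer_iff.1 hx _ ((mem_normalizer_iff.1 hn r).1 hr)
      calc r * x = n⁻¹ * (n * r * n⁻¹ * (n * x * n⁻¹)) * n := by group
        _ = x * r := by rw [this]; group
  refine h.hom H hH1 hH p hp ?_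
  rw [relIndex, index_eq_card]
  have h1 : orderOf ((⟨g, hg⟩ : ↥N) : ↥N ⧸ (centralizer (H : Set G)).subgroupOf N) ∣ p ^ k :=
    (orderOf_map_dvd (QuotientGroup.mk' ((centralizer (H : Set G)).subgroupOf N)) (⟨g, hg⟩ : ↥N)).trans
      (by rw [Subgroup.orderOf_mk, ho])
  obtain ⟨j, -, hj⟩ := (Nat.dvd_prime_pow hp).1 h1
  rcases j with _ | j
  · rw [pow_zero, orderOf_eq_one_iff, QuotientGroup.eq_one_iff, mem_subgroupOf] at hj
    exact absurd hj hc
  · refine (dvd_pow_self p j.succ_ne_zero).trans ?_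
    rw [← hj]
    exact orderOf_dvd_natCard _

end Min

end CfsgLib.PiHomog
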