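import Cfsg.Agent.Lib.PiHomog.RankTwo

/-!
# S3258: odd automorphisms of a Sylow 2-subgroup of the type of `U₃(4)` fixing its centre

Modulo `V` they act without fixed points on the fifteen non-trivial cosets and have no element of order three.
-/

set_option autoImplicit false
set_option linter.unusedSectionVars false
set_option linter.style.haveILetI false

namespace CfsgLib.PiHomog

open Subgroup CfsgLib.CIT

variable {G : Type*} [Group G] [Finite G]

/-- What is used of a Sylow 2-subgroup of the type of `U₃(4)` with its centre. -/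
structure Shape (S V : Subgroup G) : Prop where
  two : IsPGroup 2 S
  cardS : Nat.card S = 64
  cardV : Nat.card V = 4
  le : V ≤ S
  sq : ∀ v ∈ V, v * v = 1
  central : ∀ v ∈ V, ∀ s ∈ S, s * v = v * s
  sq_mem : ∀ s ∈ S, s * s ∈ V
  mem : ∀ s ∈ S, s * s = 1 → s ∈ V
  surj : ∀ s ∈ S, s ∉ V → ∀ c ∈ V, ∃ k ∈ S, k * s * k⁻¹ = s * c

namespace Shape

variable {S V : Subgroup G} (H : Shape S V)
include H

theorem inv_eq {c : G} (hc : c ∈ V) : c⁻¹ = c := inv_eq_of_mul_eq_one_right (H.sq c hc)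

theorem comm_mem {x y : G} (hx : x ∈ S) (hy : y ∈ S) : x * y * x⁻¹ * y⁻¹ ∈ V := by
  rw [show x * y * x⁻¹ * y⁻¹ = x * x * ((x⁻¹ * y) * (x⁻¹ * y)) * (y⁻¹ * y⁻¹) by group]
  exact mul_mem (mul_mem (H.sq_mem x hx) (H.sq_mem _ (mul_mem (inv_mem hx) hy)))
    (H.sq_mem _ (inv_mem hy))

/-- An odd element fixing `p` cannot move `y` to `y p`. -/
theorem fixed_of_step {g y p : G} (ho : Odd (orderOf g)) (hp : p ∈ S) (hgp : g * p * g⁻¹ = p)
    (hgy : g * y * g⁻¹ = y * p) : g * y * g⁻¹ = y := by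
  have hpow : ∀ j : ℕ, g ^ j * y * (g ^ j)⁻¹ = y * p ^ j := by
    intro j
    induction j with
    | zero => simp
    | succ j ih =>
      calc g ^ (j + 1) * y * (g ^ (j + 1))⁻¹ = g * (g ^ j * y * (g ^ j)⁻¹) * g⁻¹ := by
            rw [pow_succ']; group
        _ = g * y * g⁻¹ * (g * p ^ j * g⁻¹) := by rw [ih]; group
        _ = y * p ^ (j + 1) := by rw [← conj_pow, hgy, hgp, mul_assoc, ← pow_succ']
  have h1 := hpow (orderOf g)
  rw [pow_orderOf_eq_one, inv_one, one_mul, mul_one] at h1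
  have hp1 : p ^ orderOf g = 1 := mul_eq_left.1 h1.symm
  obtain ⟨j, hj⟩ := H.two ⟨p, hp⟩
  have hj' : p ^ 2 ^ j = 1 := congrArg Subtype.val hj
  have : p = 1 := orderOf_eq_one_iff.1 (Nat.eq_one_of_dvd_coprimes
    (ho.coprime_two_left.pow_left j) (orderOf_dvd_of_pow_eq_one hj') (orderOf_dvd_of_pow_eq_one hp1))
  rw [hgy, this, mul_one]

/-- The centraliser in `S` of an element outside `V` has order sixteen. -/
theorem card_cent {x : G} (hx : x ∈ S) (hxV : x ∉ V) :
    Nat.card (S ⊓ centralizer ({x} : Set G) : Subgroup G) = 16 := by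
  classical
  set f : ↥S ⧸ (centralizer ({x} : Set G)).subgroupOf S → ↥V := fun q =>
    ⟨x⁻¹ * ((q.out : G) * x * (q.out : G)⁻¹), by
      rw [show x⁻¹ * ((q.out : G) * x * (q.out : G)⁻¹) =
        x⁻¹ * (q.out : G) * x⁻¹⁻¹ * (q.out : G)⁻¹ by group]
      exact H.comm_mem (inv_mem hx) q.out.2⟩
  have hiff : ∀ k l : ↥S, k⁻¹ * l ∈ (centralizer ({x} : Set G)).subgroupOf S ↔
      (k : G) * x * (k : G)⁻¹ = (l : G) * x * (l : G)⁻¹ := by
    intro k l
    rw [mem_subgroupOf, mem_centralizer_singleton_iff]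
    simp only [Subgroup.coe_mul, Subgroup.coe_inv]
    constructor <;> intro h
    · calc (k : G) * x * (k : G)⁻¹ = k * (x * ((k : G)⁻¹ * l)) * (l : G)⁻¹ := by group
        _ = (l : G) * x * (l : G)⁻¹ := by rw [← h]; group
    · calc (k : G)⁻¹ * l * x = (k : G)⁻¹ * ((l : G) * x * (l : G)⁻¹) * l := by group
        _ = x * ((k : G)⁻¹ * l) := by rw [← h]; group
  have hb : Function.Bijective f := by
    refine ⟨fun p q e => ?_, fun ⟨c, hc⟩ => ?_⟩
    · rw [← p.out_eq, ← q.out_eq]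
      exact QuotientGroup.eq.2 ((hiff _ _).2 (mul_left_cancel (congrArg Subtype.val e)))
    · obtain ⟨k, hk, e⟩ := H.surj x hx hxV c hc
      refine ⟨((⟨k, hk⟩ : ↥S) : ↥S ⧸ _), Subtype.ext ?_⟩
      show x⁻¹ * _ = c
      rw [(hiff _ ⟨k, hk⟩).1 (QuotientGroup.eq.1 (Quotient.out_eq _))]
      show x⁻¹ * (k * x * k⁻¹) = c
      rw [e, inv_mul_cancel_left]
  have h1 := ((centralizer ({x} : Set G)).subgroupOf S).card_mul_index
  rw [index_eq_card, Nat.card_eq_of_bijective f hb, H.cardV, ← inf_subgroupOf_right,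
    Nat.card_congr (subgroupOfEquivOfLe (inf_le_right : centralizer ({x} : Set G) ⊓ S ≤ S)).toEquiv,
    inf_comm, H.cardS] at h1
  omega

/-- An odd element fixing `V` and a non-trivial coset of it centralises `S`. -/
theorem cent_of_fix {g x : G} (hN : g ∈ normalizer (S : Set G)) (hC : g ∈ centralizer (V : Set G))
    (ho : Odd (orderOf g)) (hx : x ∈ S) (hxV : x ∉ V) (hfix : x⁻¹ * (g * x * g⁻¹) ∈ V) :
    g ∈ centralizer (S : Set G) := by
  classical
  have hVfix : ∀ c ∈ V, g * c * g⁻¹ = c := fun c hc => by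
    rw [← mem_centralizer_iff.1 hC c hc, mul_inv_cancel_right]
  have hgS : ∀ y ∈ S, g * y * g⁻¹ ∈ S := fun y hy => (mem_normalizer_iff.1 hN y).1 hy
  have hgx : g * x * g⁻¹ = x := H.fixed_of_step ho (H.le hfix) (hVfix _ hfix) (mul_inv_cancel_left _ _).symm
  set Cx := S ⊓ centralizer ({x} : Set G) with hCx
  have hcardC : Nat.card Cx = 16 := H.card_cent hx hxV
  set P8 := V ⊔ zpowers x with hP8
  have hzx : x ∈ centralizer ({x} : Set G) := mem_centralizer_singleton_iff.2 rfl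
  have hP8C : P8 ≤ Cx := sup_le
    (fun c hc => ⟨H.le hc, mem_centralizer_singleton_iff.2 (H.central c hc x hx).symm⟩)
    (zpowers_le.2 ⟨hx, hzx⟩)
  have hP8fix : ∀ p ∈ P8, g * p * g⁻¹ = p := fun p hp => by
    have hle : P8 ≤ centralizer ({g} : Set G) := sup_le
      (fun c hc => mem_centralizer_singleton_iff.2 (mul_inv_eq_iff_eq_mul.1 (hVfix c hc)).symm)
      (zpowers_le.2 (mem_centralizer_singleton_iff.2 (mul_inv_eq_iff_eq_mul.1 hgx).symm))
    rw [← mem_centralizer_singleton_iff.1 (hle hp), mul_inv_cancel_right]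
  have hP8c : 8 ≤ Nat.card P8 := by
    have hlt : Nat.card V < Nat.card P8 :=
      Set.ncard_lt_ncard (s := (V : Set G)) ⟨(le_sup_left : V ≤ P8), fun h' => hxV (h' (mem_sup_right (mem_zpowers x)))⟩
        (Set.toFinite _)
    haveI : Fact (Nat.Prime 2) := ⟨Nat.prime_two⟩
    obtain ⟨n, hn⟩ := (H.two.to_le (hP8C.trans inf_le_left)).exists_card_eq
    rw [H.cardV, hn] at hlt
    rw [hn]
    have : 2 < n := (Nat.pow_lt_pow_iff_right (show 1 < 2 by norm_num)).1 hlt
    exact le_trans (by norm_num) (Nat.pow_le_pow_right two_pos this)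
  have hCfix : ∀ y ∈ Cx, g * y * g⁻¹ = y := by
    intro y hy
    by_cases hy8 : y ∈ P8
    · exact hP8fix y hy8
    have hgy : g * y * g⁻¹ ∈ Cx := ⟨hgS y hy.1, mem_centralizer_singleton_iff.2 (by
      have h1 : y * x = x * y := mem_centralizer_singleton_iff.1 hy.2
      calc g * y * g⁻¹ * x = g * y * g⁻¹ * (g * x * g⁻¹) := by rw [hgx]
        _ = g * (y * x) * g⁻¹ := by group
        _ = (g * x * g⁻¹) * (g * y * g⁻¹) := by rw [h1]; group
        _ = x * (g * y * g⁻¹) := by rw [hgx])⟩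
    have hidx : (P8.subgroupOf Cx).index = 2 := by
      have h1 := (P8.subgroupOf Cx).card_mul_index
      rw [Nat.card_congr (subgroupOfEquivOfLe hP8C).toEquiv, hcardC] at h1
      have h2 : (P8.subgroupOf Cx).index ≠ 1 := fun e => by
        rw [index_eq_one, subgroupOf_eq_top] at e
        exact hy8 (e hy)
      have h3 : (P8.subgroupOf Cx).index ≠ 0 := Subgroup.index_ne_zero_of_finite
      have h4 : 8 * (P8.subgroupOf Cx).index ≤ 16 := h1 ▸ Nat.mul_le_mul_right _ hP8c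
      omega
    have hp : y⁻¹ * (g * y * g⁻¹) ∈ P8 := (mul_mem_iff_of_index_two (H := P8.subgroupOf Cx) hidx
      (a := ⟨y⁻¹, inv_mem hy⟩) (b := ⟨_, hgy⟩)).2 (iff_of_false (fun h' => hy8 (by
        simpa [mem_subgroupOf] using h')) (fun h' => hy8 (by
        have h2 : g * y * g⁻¹ ∈ P8 := by simpa [mem_subgroupOf] using h'
        have h3 := hP8fix _ h2
        have h4 : g * y * g⁻¹ = y := mul_left_cancel (mul_right_cancel h3)
        exact h4 ▸ h2)))
    exact H.fixed_of_step ho (hP8C.trans inf_le_left hp) (hP8fix _ hp) (mul_inv_cancel_left _ _).symm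
  refine mem_centralizer_iff.2 fun k hk => ?_
  have h1 : k⁻¹ * (g * k * g⁻¹) ∈ Cx := by
    refine Subgroup.mem_inf.2 ⟨S.mul_mem (S.inv_mem hk) (hgS k hk), mem_centralizer_singleton_iff.2 ?_⟩
    have hc := H.comm_mem hk hx
    have e1 : (g * k * g⁻¹) * x * (g * k * g⁻¹)⁻¹ = k * x * k⁻¹ := by
      have hgx' : g⁻¹ * x * g = x := by
        conv_lhs => rw [← hgx]
        group
      calc (g * k * g⁻¹) * x * (g * k * g⁻¹)⁻¹ = g * (k * (g⁻¹ * x * g) * k⁻¹) * g⁻¹ := by group
        _ = g * ((k * x * k⁻¹ * x⁻¹) * x) * g⁻¹ := by rw [hgx']; group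
        _ = g * (k * x * k⁻¹ * x⁻¹) * g⁻¹ * (g * x * g⁻¹) := by group
        _ = k * x * k⁻¹ := by rw [hgx, hVfix _ hc]; group
    calc k⁻¹ * (g * k * g⁻¹) * x = k⁻¹ * ((g * k * g⁻¹) * x * (g * k * g⁻¹)⁻¹) * (g * k * g⁻¹) := by group
      _ = x * (k⁻¹ * (g * k * g⁻¹)) := by rw [e1]; group
  exact (mul_inv_eq_iff_eq_mul.1
    (H.fixed_of_step ho h1.1 (hCfix _ h1) (mul_inv_cancel_left _ _).symm)).symm

/-- No odd element fixing `V` acts with order three. -/
theorem cent_of_cube {g : G} (hN : g ∈ normalizer (S : Set G)) (hC : g ∈ centralizer (V : Set G))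
    (ho : Odd (orderOf g)) (h3 : g ^ 3 ∈ centralizer (S : Set G)) : g ∈ centralizer (S : Set G) := by
  classical
  by_contra hg
  set τ : G → G := fun y => g * y * g⁻¹ with hτ
  have hτS : ∀ y ∈ S, τ y ∈ S := fun y hy => (mem_normalizer_iff.1 hN y).1 hy
  have hτV : ∀ c ∈ V, τ c = c := fun c hc => by
    show g * c * g⁻¹ = c
    rw [← mem_centralizer_iff.1 hC c hc, mul_inv_cancel_right]
  have hτmul : ∀ a b, τ (a * b) = τ a * τ b := fun a b => by show g * (a * b) * g⁻¹ = _; simp [hτ, mul_assoc]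
  have hτinv : ∀ a, τ a⁻¹ = (τ a)⁻¹ := fun a => by simp [hτ, mul_assoc]
  have hτ3 : ∀ y ∈ S, τ (τ (τ y)) = y := fun y hy => by
    have h := mem_centralizer_iff.1 h3 y hy
    calc τ (τ (τ y)) = g ^ 3 * y * (g ^ 3)⁻¹ := by simp only [hτ]; rw [pow_succ, pow_two]; group
      _ = y := by rw [← h, mul_inv_cancel_right]
  have hfree : ∀ y ∈ S, y ∉ V → y⁻¹ * τ y ∉ V := fun y hy hyV h' => hg (H.cent_of_fix hN hC ho hy hyV h')
  set c : G → G → G := fun a b => a * b * a⁻¹ * b⁻¹ with hc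
  have hcV : ∀ a ∈ S, ∀ b ∈ S, c a b ∈ V := fun a ha b hb => H.comm_mem ha hb
  have hsymm : ∀ a ∈ S, ∀ b ∈ S, c b a = c a b := fun a ha b hb => by
    rw [show c b a = (c a b)⁻¹ by simp only [hc]; group, H.inv_eq (hcV a ha b hb)]
  have hmulr : ∀ a ∈ S, ∀ b ∈ S, ∀ d ∈ S, c a (b * d) = c a b * c a d := fun a ha b hb d hd => by
    calc c a (b * d) = c a b * (b * c a d * b⁻¹) := by simp only [hc]; group
      _ = c a b * c a d := by rw [H.central _ (hcV a ha d hd) b hb, mul_inv_cancel_right]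
  have hcone : ∀ a ∈ S, ∀ v ∈ V, c a v = 1 := fun a ha v hv => by
    simp only [hc]; rw [H.central v hv a ha]; group
  have hcτ : ∀ a ∈ S, ∀ b ∈ S, c (τ a) (τ b) = c a b := fun a ha b hb => by
    conv_rhs => rw [← hτV _ (hcV a ha b hb)]
    simp only [hc, hτ]; group
  have hcmod : ∀ a ∈ S, ∀ b ∈ S, ∀ d ∈ S, b⁻¹ * d ∈ V → c a d = c a b := fun a ha b hb d hd h' => by
    rw [show d = b * (b⁻¹ * d) by group, hmulr a ha b hb _ (H.le h'), hcone a ha _ h', mul_one]
  have hsqmod : ∀ b ∈ S, ∀ v ∈ V, (b * v) * (b * v) = b * b := fun b hb v hv => by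
    calc b * v * (b * v) = b * (v * b) * v := by group
      _ = b * b * (v * v) := by rw [← H.central v hv b hb]; group
      _ = b * b := by rw [H.sq v hv, mul_one]
  have hsqmul : ∀ a ∈ S, ∀ b ∈ S, (a * b) * (a * b) = a * a * (b * b) * c a b := fun a ha b hb => by
    have h1 : b * a = c a b * (a * b) := by rw [← hsymm a ha b hb]; simp only [hc]; group
    calc a * b * (a * b) = a * (b * a) * b := by group
      _ = a * c a b * (a * (b * b)) := by rw [h1]; group
      _ = c a b * (a * (a * (b * b))) := by rw [H.central _ (hcV a ha b hb) a ha]; group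
      _ = a * a * (b * b) * c a b := by
        rw [H.central _ (hcV a ha b hb) _ (mul_mem (mul_mem ha ha) (mul_mem hb hb))]; group
  have hτsq : ∀ a ∈ S, τ a * τ a = a * a := fun a ha => by rw [← hτmul, hτV _ (H.sq_mem a ha)]
  -- the orbit of a coset sums to zero
  have horb : ∀ y ∈ S, y * τ y * τ (τ y) ∈ V := fun y hy => by
    by_contra hz
    set z := y * τ y * τ (τ y) with hzdef
    have hzS : z ∈ S := mul_mem (mul_mem hy (hτS _ hy)) (hτS _ (hτS _ hy))
    refine hfree z hzS hz ?_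
    have e : τ z = τ y * τ (τ y) * y := by rw [hzdef, hτmul, hτmul, hτ3 y hy]
    rw [e, show z⁻¹ * (τ y * τ (τ y) * y) =
      (y * τ y * τ (τ y))⁻¹ * (τ y * τ (τ y)) * ((y * τ y * τ (τ y))⁻¹)⁻¹ *
        (τ y * τ (τ y))⁻¹ by rw [hzdef]; group]
    exact H.comm_mem (inv_mem hzS) (mul_mem (hτS _ hy) (hτS _ (hτS _ hy)))
  -- `[x, τ x] = x ^ 2`
  have hself : ∀ x ∈ S, c x (τ x) = x * x := fun x hx => by
    have hx1 := hτS x hx
    have hx2 := hτS _ hx1
    have h1 : (x * τ x)⁻¹ * τ (τ x) ∈ V := by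
      rw [show (x * τ x)⁻¹ * τ (τ x) = ((x * τ x) * (x * τ x))⁻¹ * (x * τ x * τ (τ x)) by group]
      exact mul_mem (inv_mem (H.sq_mem _ (mul_mem hx hx1))) (horb x hx)
    have h2 := hsqmod _ (mul_mem hx hx1) _ h1
    rw [mul_inv_cancel_left, hτsq _ hx1, hτsq x hx, hsqmul x hx _ hx1, hτsq x hx,
      H.sq _ (H.sq_mem x hx), one_mul] at h2
    exact h2.symm
  obtain ⟨x, hx, hxV⟩ : ∃ x ∈ S, x ∉ V := by
    by_contra hno
    push Not at hno
    have := card_le_of_le (show S ≤ V from hno)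
    rw [H.cardS, H.cardV] at this
    omega
  have hx1 := hτS x hx
  have hx2 := hτS _ hx1
  have ha1 : x * x ≠ 1 := fun e => hxV (H.mem x hx e)
  -- the key lemma
  have M : ∀ x ∈ S, x ∉ V → ∀ y ∈ S, c x y = 1 → y ∉ V → x⁻¹ * y ∉ V → c x (τ y) ≠ 1 := by
    intro x hx hxV y hy hxy hyV hyx hd
    have ha1 : x * x ≠ 1 := fun e => hxV (H.mem x hx e)
    have hy1 := hτS y hy
    have hcx : ∀ w ∈ S, c x w = 1 → w ∈ V ∨ x⁻¹ * w ∈ V ∨ y⁻¹ * w ∈ V ∨ (x * y)⁻¹ * w ∈ V := by
      intro w hw hwc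
      by_contra hno
      push Not at hno
      obtain ⟨h1, h2, h3, h4⟩ := hno
      -- five cosets of `V` inside `C_S(x)`
      set Cx := S ⊓ centralizer ({x} : Set G) with hCx
      have hmem : ∀ z ∈ S, c x z = 1 → z ∈ Cx := fun z hz e => ⟨hz, mem_centralizer_singleton_iff.2 (by
        have : x * z * x⁻¹ = z := mul_inv_eq_one.1 e
        exact (mul_inv_eq_iff_eq_mul.1 this).symm)⟩
      have hxC : x ∈ Cx := ⟨hx, mem_centralizer_singleton_iff.2 rfl⟩
      have hVC : V ≤ Cx := fun v hv => hmem v (H.le hv) (hcone x hx v hv)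
      have hcard : Nat.card Cx = 16 := H.card_cent hx hxV
      haveI : (V.subgroupOf Cx).Normal := normal_subgroupOf_of_le_normalizer (fun z hz => by
        refine centralizer_le_normalizer _ (mem_centralizer_iff.2 fun v hv => ?_)
        exact (H.central v hv z hz.1).symm)
      have hq : Nat.card (↥Cx ⧸ V.subgroupOf Cx) = 4 := by
        have h1 := (V.subgroupOf Cx).card_mul_index
        rw [Nat.card_congr (subgroupOfEquivOfLe hVC).toEquiv, H.cardV, index_eq_card] at h1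
        omega
      haveI : Fintype (↥Cx ⧸ V.subgroupOf Cx) := Fintype.ofFinite _
      set X : ↥Cx := ⟨x, hxC⟩
      set Y : ↥Cx := ⟨y, hmem y hy hxy⟩
      set W : ↥Cx := ⟨w, hmem w hw hwc⟩
      have hne : ∀ P Q : ↥Cx, (P : G)⁻¹ * (Q : G) ∉ V →
          (P : ↥Cx ⧸ V.subgroupOf Cx) ≠ (Q : ↥Cx ⧸ V.subgroupOf Cx) :=
        fun P Q hPQ e => hPQ (mem_subgroupOf.1 (QuotientGroup.eq.1 e))
      have h5 : (({(1 : ↥Cx), X, Y, X * Y, W} : Finset ↥Cx).image
          (fun z : ↥Cx => (z : ↥Cx ⧸ V.subgroupOf Cx))).card = 5 := by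
        have n1 : ((1 : ↥Cx) : ↥Cx ⧸ V.subgroupOf Cx) ≠ X := hne _ _ (by simpa [X] using hxV)
        have n2 : ((1 : ↥Cx) : ↥Cx ⧸ V.subgroupOf Cx) ≠ Y := hne _ _ (by simpa [Y] using hyV)
        have n3 : ((1 : ↥Cx) : ↥Cx ⧸ V.subgroupOf Cx) ≠ ((X * Y : ↥Cx) : ↥Cx ⧸ _) := hne _ _ (by
          simp only [X, Y, Subgroup.coe_one, inv_one, one_mul, Subgroup.coe_mul]
          intro h'
          exact hyx (by
            have := mul_mem (inv_mem (H.sq_mem x hx)) h'
            rwa [show (x * x)⁻¹ * (x * y) = x⁻¹ * y by group] at this))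
        have n4 : ((1 : ↥Cx) : ↥Cx ⧸ V.subgroupOf Cx) ≠ W := hne _ _ (by simpa [W] using h1)
        have n5 : (X : ↥Cx ⧸ V.subgroupOf Cx) ≠ Y := hne _ _ hyx
        have n6 : (X : ↥Cx ⧸ V.subgroupOf Cx) ≠ ((X * Y : ↥Cx) : ↥Cx ⧸ _) := hne _ _ (by simpa [X, Y] using hyV)
        have n7 : (X : ↥Cx ⧸ V.subgroupOf Cx) ≠ W := hne _ _ h2
        have n8 : (Y : ↥Cx ⧸ V.subgroupOf Cx) ≠ ((X * Y : ↥Cx) : ↥Cx ⧸ _) := hne _ _ (by
          simp only [X, Y, Subgroup.coe_mul]
          intro h'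
          apply hxV
          have hxy' : x * y = y * x := mul_inv_eq_iff_eq_mul.1 (mul_inv_eq_one.1 hxy)
          rwa [hxy', inv_mul_cancel_left] at h')
        have n9 : (Y : ↥Cx ⧸ V.subgroupOf Cx) ≠ W := hne _ _ h3
        have n10 : ((X * Y : ↥Cx) : ↥Cx ⧸ V.subgroupOf Cx) ≠ W := hne _ _ h4
        rw [Finset.image_insert, Finset.image_insert, Finset.image_insert, Finset.image_insert,
          Finset.image_singleton]
        rw [Finset.card_insert_of_notMem (by simp only [Finset.mem_insert, Finset.mem_singleton]; tauto),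
          Finset.card_insert_of_notMem (by simp only [Finset.mem_insert, Finset.mem_singleton]; tauto),
          Finset.card_insert_of_notMem (by simp only [Finset.mem_insert, Finset.mem_singleton]; tauto),
          Finset.card_insert_of_notMem (by simp only [Finset.mem_singleton]; exact n10),
          Finset.card_singleton]
      have := (Finset.card_le_univ (({(1 : ↥Cx), X, Y, X * Y, W} : Finset ↥Cx).image
        (fun z : ↥Cx => (z : ↥Cx ⧸ V.subgroupOf Cx))))
      rw [h5, ← Nat.card_eq_fintype_card, hq] at this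
      omega
    have hxτ2 : c x (τ (τ x)) = x * x := by
      rw [← hcτ x hx _ (hτS _ (hτS x hx)), hτ3 x hx, hsymm x hx _ (hτS x hx), hself x hx]
    rcases hcx (τ y) hy1 hd with h1 | h1 | h1 | h1
    · -- `τ y ∈ V`
      refine hyV ?_
      rw [← hτ3 y hy, hτV _ h1, hτV _ h1]
      exact h1
    · -- `τ y ≡ x`
      have h2 : (τ (τ x))⁻¹ * y ∈ V := by
        have e : τ (τ (x⁻¹ * τ y)) = (τ (τ x))⁻¹ * y := by
          rw [hτmul x⁻¹ (τ y), hτinv x, hτmul (τ x)⁻¹ (τ (τ y)), hτinv (τ x), hτ3 y hy]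
        rw [← e, hτV _ h1, hτV _ h1]
        exact h1
      have h3 := hcmod x hx _ (hτS _ (hτS x hx)) y hy h2
      rw [hxy, hxτ2] at h3
      exact ha1 h3.symm
    · exact hfree y hy hyV h1
    · -- `τ y ≡ x y`
      have hx1 := hτS x hx
      have hxy' : x * y = y * x := mul_inv_eq_iff_eq_mul.1 (mul_inv_eq_one.1 hxy)
      have h2 : (τ x * τ y)⁻¹ * τ (τ y) ∈ V := by
        have e : τ ((x * y)⁻¹ * τ y) = (τ x * τ y)⁻¹ * τ (τ y) := by
          rw [hτmul (x * y)⁻¹ (τ y), hτinv (x * y), hτmul x y]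
        rw [← e, hτV _ h1]
        exact h1
      have h3 : y * τ y * τ (τ y) ∈ V := horb y hy
      -- so `y ≡ τ x`
      have h4 : (τ x)⁻¹ * y ∈ V := by
        have h5 : y * τ y * (τ x * τ y) ∈ V := by
          have := mul_mem h3 (inv_mem h2)
          rwa [mul_inv_rev, inv_inv, mul_assoc (y * τ y), ← mul_assoc (τ (τ y)), mul_inv_cancel, one_mul] at this
        have h6 : y * τ x * (τ y * τ y) ∈ V := by
          have hk := hcV _ hy1 _ hx1
          have e : y * τ y * (τ x * τ y) = c (τ y) (τ x) * (y * τ x * (τ y * τ y)) := by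
            rw [show c (τ y) (τ x) * (y * τ x * (τ y * τ y)) = c (τ y) (τ x) * y * (τ x * (τ y * τ y)) by group,
              ← H.central _ hk y hy]
            simp only [hc]
            group
          rw [e] at h5
          have := mul_mem (inv_mem hk) h5
          rwa [inv_mul_cancel_left] at this
        have h7 := mul_mem h6 (inv_mem (H.sq_mem _ hy1))
        rw [mul_inv_cancel_right] at h7
        have h8 := mul_mem (inv_mem (H.sq_mem _ hx1)) (mul_mem (H.comm_mem hx1 hy) h7)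
        rwa [show (τ x * τ x)⁻¹ * (τ x * y * (τ x)⁻¹ * y⁻¹ * (y * τ x)) = (τ x)⁻¹ * y by group] at h8
      have h5 := hcmod x hx _ hx1 y hy h4
      rw [hxy, hself x hx] at h5
      exact ha1 h5.symm
  -- choose `y` in `C_S(x)` off `⟨x⟩ V`
  obtain ⟨y, hy, hxy, hyV, hyx⟩ : ∃ y ∈ S, c x y = 1 ∧ y ∉ V ∧ x⁻¹ * y ∉ V := by
    by_contra hno
    push Not at hno
    set Cx := S ⊓ centralizer ({x} : Set G) with hCx
    have hsub : ∀ z ∈ Cx, z ∈ V ∨ x⁻¹ * z ∈ V := fun z hz => by
      by_contra hno'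
      push Not at hno'
      refine hno'.2 (hno z hz.1 ?_ hno'.1)
      simp only [hc]
      rw [← mem_centralizer_singleton_iff.1 hz.2]
      group
    set f : ↥Cx → ↥V ⊕ ↥V := fun z => if hz : (z : G) ∈ V then Sum.inl ⟨_, hz⟩
      else Sum.inr ⟨x⁻¹ * z, (hsub z z.2).resolve_left hz⟩
    have hf : Function.Injective f := fun p q e => by
      simp only [f] at e
      split_ifs at e with h1 h2
      · exact Subtype.ext (congrArg Subtype.val (Sum.inl.inj e) :)
      · exact Subtype.ext (mul_left_cancel (congrArg Subtype.val (Sum.inr.inj e)))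
    have h8 := Nat.card_le_card_of_injective f hf
    rw [Nat.card_sum, H.cardV] at h8
    rw [H.card_cent hx hxV] at h8
    omega
  have hy1 := hτS y hy
  set a := x * x with ha
  set b := y * y with hb
  set d := c x (τ y) with hd
  have haV : a ∈ V := H.sq_mem x hx
  have hbV : b ∈ V := H.sq_mem y hy
  have hdV : d ∈ V := hcV x hx _ hy1
  have hb1 : b ≠ 1 := fun e => hyV (H.mem y hy e)
  have hd1 : d ≠ 1 := M x hx hxV y hy hxy hyV hyx
  have hxyS : x * y ∈ S := mul_mem hx hy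
  have hxyV : x * y ∉ V := fun h' => hyx (by
    have := mul_mem (inv_mem haV) h'
    rwa [show (x * x)⁻¹ * (x * y) = x⁻¹ * y by group] at this)
  have hda : d ≠ a := by
    have h1 := M x hx hxV (x * y) hxyS
      (by rw [hmulr x hx x hx y hy, hxy, mul_one]; simp only [hc]; group) hxyV (by rwa [inv_mul_cancel_left])
    rw [hτmul, hmulr x hx _ hx1 _ hy1, hself x hx, ← ha, ← hd] at h1
    intro e
    rw [e, H.sq a haV] at h1
    exact h1 rfl
  have hab : a ≠ b := fun e => hxyV (H.mem _ hxyS (by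
    rw [hsqmul x hx y hy, hxy, mul_one, ← ha, ← hb, e, H.sq b hbV]))
  have hyτx : c y (τ x) = d := by
    rw [← hcτ y hy _ hx1, hd]
    have h1 : (x * τ x)⁻¹ * τ (τ x) ∈ V := by
      rw [show (x * τ x)⁻¹ * τ (τ x) = ((x * τ x) * (x * τ x))⁻¹ * (x * τ x * τ (τ x)) by group]
      exact mul_mem (inv_mem (H.sq_mem _ (mul_mem hx hx1))) (horb x hx)
    rw [hcmod _ hy1 _ (mul_mem hx hx1) _ hx2 h1, hmulr _ hy1 x hx _ hx1, hcτ y hy x hx, hsymm x hx y hy, hxy,
      mul_one, hsymm x hx _ hy1]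
  have hdb : d ≠ b := by
    have h1 := M y hy hyV (x * y) hxyS
      (by rw [hmulr y hy x hx y hy, hsymm x hx y hy, hxy, one_mul]; simp only [hc]; group) hxyV (fun h' => by
        have hxy' : x * y = y * x := mul_inv_eq_iff_eq_mul.1 (mul_inv_eq_one.1 hxy)
        rw [hxy', inv_mul_cancel_left] at h'
        exact hxV h')
    rw [hτmul, hmulr y hy _ hx1 _ hy1, hyτx, hself y hy, ← hb] at h1
    intro e
    rw [e, H.sq b hbV] at h1
    exact h1 rfl
  -- `V` has only four elements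
  have hdab : d = a * b := by
    by_contra hne
    have hab1 : a * b ≠ 1 := fun e => hab (by
      rw [eq_inv_of_mul_eq_one_left e, H.inv_eq hbV])
    have hsub : ({1, a, b, a * b, d} : Set G) ⊆ (V : Set G) := by
      rintro z (rfl | rfl | rfl | rfl | rfl)
      exacts [one_mem _, haV, hbV, mul_mem haV hbV, hdV]
    have h5 := Set.ncard_le_ncard hsub (Set.toFinite _)
    rw [← Nat.card_coe_set_eq (V : Set G), SetLike.coe_sort_coe, H.cardV] at h5
    have n1 : a ≠ a * b := fun e => hb1 (left_eq_mul.1 e)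
    have n2 : b ≠ a * b := fun e => ha1 (right_eq_mul.1 e)
    rw [Set.ncard_insert_of_notMem (by simp [Ne.symm ha1, hb1.symm, hab1.symm, hd1.symm]),
      Set.ncard_insert_of_notMem (by simp [hab, n1, hda.symm]),
      Set.ncard_eq_three.2 ⟨b, a * b, d, n2, hdb.symm, Ne.symm hne, rfl⟩] at h5
    omega
  have h1 : x * τ y ∈ V := H.mem _ (mul_mem hx hy1) (by
    rw [hsqmul x hx _ hy1, hτsq y hy, ← hd, hdab, ← ha, ← hb]
    exact H.sq _ (mul_mem haV hbV))
  have h2 : x⁻¹ * τ y ∈ V := by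
    have := mul_mem (inv_mem haV) h1
    rwa [show (x * x)⁻¹ * (x * τ y) = x⁻¹ * τ y by group] at this
  refine hd1 ?_
  rw [hd, hcmod x hx x hx _ hy1 h2]
  simp only [hc]
  group

end Shape

end CfsgLib.PiHomog
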