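import Cfsg.Agent.Lib.PiHomog.Coset
import Mathlib.GroupTheory.Transfer

/-!
# S3258: no odd element fixing an involution moves a Sylow 2-subgroup of the type of `U₃(4)`

Such elements induce a group of order five on `S / V`; it extends to a Sylow 5-subgroup whose transfer is non-trivial.
-/

set_option autoImplicit false
set_option linter.unusedSectionVars false
set_option linter.style.haveILetI false

namespace CfsgLib.PiHomog

open Subgroup CfsgLib.CIT
open CfsgLib.InvCent.UnitarySylow (U34)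

variable {π : Set ℕ} {G : Type*} [Group G] [Finite G]

/-- The transfer of an element all of whose conjugate powers look alike. -/
theorem transfer_pow_index {A : Subgroup G} {R : Type*} [CommGroup R] (φ : ↥A →* R)
    (hinv : ∀ (x y : ↥A) (g : G), g * (x : G) * g⁻¹ = (y : G) → φ x = φ y) (z : ↥A) :
    MonoidHom.transfer φ (z : G) = φ z ^ A.index := by
  classical
  haveI := Fintype.ofFinite (Quotient (MulAction.orbitRel (Subgroup.zpowers (z : G)) (G ⧸ A)))
  rw [MonoidHom.transfer_eq_prod_quotient_orbitRel_zpowers_quot, A.index_eq_sum_minimalPeriod (z : G),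
    ← Finset.prod_pow_eq_pow_sum]
  refine Finset.prod_congr rfl fun q _ => ?_
  rw [← map_pow]
  exact (hinv (z ^ _) _ (Quotient.out (Quotient.out q))⁻¹ (by simp only [inv_inv, Subgroup.coe_pow])).symm

/-- The elements inducing the same as the identity modulo `V`. -/
def kern (S V : Subgroup G) : Subgroup G where
  carrier := {g | g ∈ normalizer (S : Set G) ∧ g ∈ normalizer (V : Set G) ∧ ∀ y ∈ S, y⁻¹ * (g * y * g⁻¹) ∈ V}
  one_mem' := ⟨one_mem _, one_mem _, fun y _ => by simp⟩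
  mul_mem' := fun {a b} ha hb => ⟨mul_mem ha.1 hb.1, mul_mem ha.2.1 hb.2.1, fun y hy => by
    rw [show y⁻¹ * (a * b * y * (a * b)⁻¹) = y⁻¹ * (a * y * a⁻¹) * (a * (y⁻¹ * (b * y * b⁻¹)) * a⁻¹) by group]
    exact mul_mem (ha.2.2 y hy) ((mem_normalizer_iff.1 ha.2.1 _).1 (hb.2.2 y hy))⟩
  inv_mem' := fun {a} ha => ⟨inv_mem ha.1, inv_mem ha.2.1, fun y hy => by
    have h1 := inv_mem (ha.2.2 _ ((mem_normalizer_iff''.1 ha.1 y).1 hy))
    convert h1 using 1
    group⟩

namespace Shape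

variable {S V : Subgroup G} (H : Shape S V)
include H

theorem inf_le (x : G) (hx : x ∈ S) : ∀ y ∈ S, y⁻¹ * (x * y * x⁻¹) ∈ V := fun y hy => by
  have := H.comm_mem (inv_mem hy) hx
  rwa [inv_inv, show y⁻¹ * x * y * x⁻¹ = y⁻¹ * (x * y * x⁻¹) by group] at this

theorem le_kern : S ≤ kern S V := fun s hs => ⟨le_normalizer hs, centralizer_le_normalizer _
  (mem_centralizer_iff.2 fun v hv => (H.central v hv s hs).symm), H.inf_le s hs⟩

theorem cent_le_kern {g : G} (hg : g ∈ centralizer (S : Set G)) : g ∈ kern S V :=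
  ⟨centralizer_le_normalizer _ hg, centralizer_le_normalizer _
    (mem_centralizer_iff.2 fun v hv => mem_centralizer_iff.1 hg v (H.le hv)), fun y hy => by
    rw [← mem_centralizer_iff.1 hg y hy, mul_inv_cancel_right, inv_mul_cancel]; exact one_mem _⟩

theorem cent_of_kern {g : G} (hg : g ∈ kern S V) (hC : g ∈ centralizer (V : Set G)) (ho : Odd (orderOf g)) :
    g ∈ centralizer (S : Set G) := by
  obtain ⟨x, hx, hxV⟩ : ∃ x ∈ S, x ∉ V := by
    by_contra hno
    push Not at hno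
    have := card_le_of_le (show S ≤ V from hno)
    rw [H.cardS, H.cardV] at this
    omega
  exact H.cent_of_fix hg.1 hC ho hx hxV (hg.2.2 x hx)

end Shape

namespace Min

variable [IsSimpleGroup G] (h : Min π G) {S : Subgroup G} (hS : IsSyl S ⊤)
include h hS

theorem shape (hU : U34 ↥S) : Shape S (Vz S) where
  two := hS.2.1
  cardS := hU.card
  cardV := h.card_Vz hS
  le := Vz_le S
  sq := fun v hv => hv.2.1
  central := fun v hv => hv.2.2
  sq_mem := fun s hs => h.involution_mem_Vz hS (mul_mem hs hs)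
    (congrArg Subtype.val ((hU.mem_center_iff _).1 (hU.sq_mem ⟨s, hs⟩)) :)
  mem := fun s hs e => h.involution_mem_Vz hS hs e
  surj := fun s hs hsV c hc => by
    obtain ⟨k, hk⟩ := hU.conj_surj ⟨s, hs⟩
      (fun h' => hsV (h.involution_mem_Vz hS hs (congrArg Subtype.val ((hU.mem_center_iff _).1 h') :)))
      ⟨c, hc.1⟩ ((hU.mem_center_iff _).2 (Subtype.ext hc.2.1))
    exact ⟨k, k.2, congrArg Subtype.val hk⟩

omit hS in
/-- The prime powers in `π` dividing a proper subgroup divide the normaliser of a Sylow subgroup of it. -/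
theorem pow_dvd_inf {H T : Subgroup G} (hH : H ≠ ⊤) (hT : IsSyl T H) {p k : ℕ} (hp : p.Prime) (hpπ : p ∈ π)
    (hd : p ^ k ∣ Nat.card H) : p ^ k ∣ Nat.card (H ⊓ normalizer (T : Set G) : Subgroup G) := by
  have e : (H ⊓ normalizer (T : Set G)) ⊔ pc π H = H := by
    refine le_antisymm (sup_le inf_le_left (pc_le H)) fun x hx => ?_
    obtain ⟨a, ha, n, hn, rfl⟩ := h.exists_mul hH hT hx
    exact mul_mem (mem_sup_right ha) (mem_sup_left hn)
  have h1 := Core.card_sup_dvd (H ⊓ normalizer (T : Set G)) (pc π H)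
    (inf_le_left.trans (le_normalizer.trans (normalizer_le_pc H)))
  rw [e] at h1
  exact ((piNum_prime_pow hp hpπ).coprime (h.co_pc hH)).dvd_of_dvd_mul_right (hd.trans h1)

/-- A Sylow 2-subgroup of a proper subgroup containing `V` has `V` as its elements of square one. -/
theorem sq_one_mem {T : Subgroup G} (hT : IsPGroup 2 T) (hV : Vz S ≤ T) {t : G} (ht : t ∈ T)
    (ht2 : t * t = 1) : t ∈ Vz S := by
  obtain ⟨T', hT', hle⟩ := exists_isSyl (le_top : T ≤ ⊤) hT
  obtain ⟨c, -, hc⟩ := hT'.exists_conj hS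
  have hmem : ∀ x ∈ T, x * x = 1 → c * x * c⁻¹ ∈ Vz S := fun x hx hx2 => by
    refine h.involution_mem_Vz hS (hc ▸ conj_mem_cj.2 (hle hx)) ?_
    rw [show c * x * c⁻¹ * (c * x * c⁻¹) = c * (x * x) * c⁻¹ by group, hx2, mul_one, mul_inv_cancel]
  have he : cj c (Vz S) = Vz S := eq_of_le_of_card_ge
    (fun y hy => by obtain ⟨x, hx, rfl⟩ := hy; exact hmem x (hV hx) hx.2.1) (card_cj c _).ge
  have h1 := hmem t ht ht2
  rw [← he] at h1
  exact conj_mem_cj.1 h1

theorem norm_syl_le {T : Subgroup G} (hT : IsPGroup 2 T) (hV : Vz S ≤ T) :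
    normalizer (T : Set G) ≤ normalizer (Vz S : Set G) := by
  intro n hn
  refine mem_normalizer_iff_cj.2 (eq_of_le_of_card_ge ?_ (card_cj n _).ge)
  rintro _ ⟨v, hv, rfl⟩
  refine h.sq_one_mem hS hT hV ((mem_normalizer_iff.1 hn v).1 (hV hv)) ?_
  show n * v * n⁻¹ * (n * v * n⁻¹) = 1
  rw [show n * v * n⁻¹ * (n * v * n⁻¹) = n * (v * v) * n⁻¹ by group, hv.2.1, mul_one, mul_inv_cancel]

theorem five_false {v f : G} (hv : v ∈ Vz S) (hv1 : v ≠ 1) (hf : f ∈ normalizer (S : Set G))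
    (hfv : f * v = v * f) (hfo : Odd (orderOf f)) (hfc : f ∉ centralizer (S : Set G)) : False := by
  classical
  obtain ⟨hfV, hU⟩ := h.u34_of_moves hS hv hv1 hf hfv hfo hfc
  have H := h.shape hS hU
  set V := Vz S with hVdef
  have hVbot : V ≠ ⊥ := fun e => hv1 (mem_bot.1 (e ▸ hv))
  have hVtop : V ≠ ⊤ := fun e => h.sylow_ne_top hS (top_le_iff.1 (e ▸ Vz_le S))
  have hNVtop := h.normalizer_ne_top hVbot hVtop
  have hCVtop : centralizer (V : Set G) ≠ ⊤ := fun e =>
    h.cent_ne_top hv1 (top_le_iff.1 (e ▸ fun x hx => mem_centralizer_singleton_iff.2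
      (mem_centralizer_iff.1 hx v hv).symm))
  have hNSV : normalizer (S : Set G) ≤ normalizer (V : Set G) := h.norm_le_norm_Vz hS
  have hSC : S ≤ centralizer (V : Set G) := h.le_cent_Vz hS
  set L := centralizer (V : Set G) ⊓ normalizer (S : Set G) with hL
  set K := (kern S V).subgroupOf (normalizer (S : Set G)) with hK
  haveI : K.Normal := ⟨fun a ha m => by
    obtain ⟨-, -, ha3⟩ := mem_subgroupOf.1 ha
    refine mem_subgroupOf.2 ⟨(m * a * m⁻¹).2, hNSV (m * a * m⁻¹).2, fun y hy => ?_⟩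
    have h1 := ha3 _ ((mem_normalizer_iff''.1 m.2 y).1 hy)
    have h2 := (mem_normalizer_iff.1 (hNSV m.2) _).1 h1
    simp only [Subgroup.coe_mul, Subgroup.coe_inv]
    convert h2 using 1
    group⟩
  set σ := QuotientGroup.mk' K with hσ
  set R := (L.subgroupOf (normalizer (S : Set G))).map σ with hR
  have hσ2 : ∀ (m : ↥(normalizer (S : Set G))) (n : ℕ), m ^ 2 ^ n = 1 → σ m = 1 := fun m n hm =>
    (QuotientGroup.eq_one_iff m).2 (mem_subgroupOf.2 (H.le_kern (two_mem_syl hS m.2 (n := n)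
      (congrArg Subtype.val hm))))
  have hodd : ∀ l ∈ L.subgroupOf (normalizer (S : Set G)), ∃ l' ∈ L.subgroupOf (normalizer (S : Set G)),
      σ l' = σ l ∧ Odd (orderOf l') := by
    intro l hl
    obtain ⟨a, b, hb, hab⟩ := Nat.exists_eq_two_pow_mul_odd (orderOf_pos l).ne'
    have hb1 : σ l ^ b = 1 := by
      rw [← map_pow]
      exact hσ2 _ a (by rw [← pow_mul, mul_comm, ← hab, pow_orderOf_eq_one])
    obtain ⟨i, j, hij⟩ : IsCoprime (((2 ^ a : ℕ) : ℤ)) (b : ℤ) :=
      Nat.Coprime.isCoprime ((Nat.coprime_two_left.2 hb).pow_left a)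
    refine ⟨(l ^ 2 ^ a) ^ i, zpow_mem (pow_mem hl _) _, ?_, ?_⟩
    · rw [map_zpow, map_pow, ← zpow_natCast (σ l) (2 ^ a), ← zpow_mul, mul_comm (((2 ^ a : ℕ) : ℤ)) i,
        eq_sub_of_add_eq hij, zpow_sub, zpow_one, mul_comm j (b : ℤ), zpow_mul, zpow_natCast, hb1,
        one_zpow, inv_one, mul_one]
    · refine hb.of_dvd_nat (orderOf_dvd_of_pow_eq_one ?_)
      rw [← zpow_natCast ((l ^ 2 ^ a) ^ i), ← zpow_mul, mul_comm i, zpow_mul, zpow_natCast, ← pow_mul,
        ← hab, pow_orderOf_eq_one, one_zpow]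
  have hone : ∀ l ∈ L.subgroupOf (normalizer (S : Set G)), Odd (orderOf l) →
      (σ l = 1 ↔ (l : G) ∈ centralizer (S : Set G)) := fun l hl ho => by
    refine ⟨fun e => ?_, fun e => (QuotientGroup.eq_one_iff l).2 (mem_subgroupOf.2 (H.cent_le_kern e))⟩
    exact H.cent_of_kern (mem_subgroupOf.1 ((QuotientGroup.eq_one_iff l).1 e)) (mem_subgroupOf.1 hl).1
      (by rwa [orderOf_coe])
  -- the primes of `R`
  set VS := V.subgroupOf S with hVS
  haveI : VS.Normal := ⟨fun a ha s => mem_subgroupOf.2 (by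
    simp only [Subgroup.coe_mul, Subgroup.coe_inv]
    rw [H.central _ (mem_subgroupOf.1 ha) _ s.2, mul_inv_cancel_right]
    exact mem_subgroupOf.1 ha)⟩
  have hQ : Nat.card (↥S ⧸ VS) = 16 := by
    have h1 := VS.card_mul_index
    rw [hVS, Nat.card_congr (subgroupOfEquivOfLe H.le).toEquiv, H.cardV, index_eq_card, H.cardS] at h1
    rw [hVS]
    omega
  have hord : ∀ r ∈ R, ∀ p : ℕ, p.Prime → p ∣ orderOf r → p = 5 := by
    intro r hr p hp hpr
    haveI : Fact p.Prime := ⟨hp⟩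
    obtain ⟨r', hr', hpo⟩ : ∃ r' ∈ R, orderOf r' = p := by
      refine ⟨r ^ (orderOf r / p), pow_mem hr _, ?_⟩
      have hne : orderOf r / p ≠ 0 := (Nat.div_pos (Nat.le_of_dvd (orderOf_pos r) hpr) hp.pos).ne'
      rw [orderOf_pow_of_dvd hne (Nat.div_dvd_of_dvd hpr), Nat.div_div_self hpr (orderOf_pos r).ne']
    obtain ⟨l₀, hl₀, rfl⟩ := hr'
    obtain ⟨l, hl, hle, hlo⟩ := hodd l₀ hl₀
    rw [← hle] at hpo
    have hlne : (l : G) ∉ centralizer (S : Set G) := fun e => by
      rw [(hone l hl hlo).2 e, orderOf_one] at hpo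
      exact hp.ne_one hpo.symm
    have hp3 : p ≠ 3 := fun e => by
      subst e
      refine hlne (H.cent_of_cube l.2 (mem_subgroupOf.1 hl).1 (by rwa [orderOf_coe]) ?_)
      have h1 : σ (l ^ 3) = 1 := by rw [map_pow, ← hpo, pow_orderOf_eq_one]
      simpa using (hone (l ^ 3) (pow_mem hl 3) (hlo.of_dvd_nat (orderOf_pow_dvd 3))).1 h1
    have hp2 : p ≠ 2 := fun e => by
      subst e
      exact absurd (hlo.of_dvd_nat (hpo ▸ orderOf_map_dvd σ l)) (by decide)
    -- `p` divides fifteen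
    have hlp : (l : G) ^ p ∈ centralizer (S : Set G) := by
      simpa using (hone (l ^ p) (pow_mem hl p) (hlo.of_dvd_nat (orderOf_pow_dvd p))).1
        (by rw [map_pow, ← hpo, pow_orderOf_eq_one])
    let act : ↥S ⧸ VS →* ↥S ⧸ VS := QuotientGroup.lift VS
      ((QuotientGroup.mk' VS).comp ((S.normalizerMonoidHom l).toMonoidHom)) (fun a ha => by
        simp only [MonoidHom.mem_ker, MonoidHom.comp_apply, QuotientGroup.mk'_apply, QuotientGroup.eq_one_iff]
        refine mem_subgroupOf.2 ?_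
        show (l : G) * (a : G) * (l : G)⁻¹ ∈ V
        exact (mem_normalizer_iff.1 (hNSV l.2) _).1 (mem_subgroupOf.1 ha))
    have hact : ∀ (n : ℕ) (y : ↥S), (act^[n]) (y : ↥S ⧸ VS) =
        ((⟨(l : G) ^ n * y * ((l : G) ^ n)⁻¹,
          (mem_normalizer_iff.1 (pow_mem l.2 n) _).1 y.2⟩ : ↥S) : ↥S ⧸ VS) := by
      intro n y
      induction n with
      | zero => simp
      | succ n ih =>
        rw [Function.iterate_succ_apply', ih]
        refine congrArg QuotientGroup.mk (Subtype.ext ?_)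
        show (l : G) * ((l : G) ^ n * y * ((l : G) ^ n)⁻¹) * (l : G)⁻¹ =
          (l : G) ^ (n + 1) * y * ((l : G) ^ (n + 1))⁻¹
        rw [pow_succ']
        group
    have hper : ∀ q : ↥S ⧸ VS, (act^[p]) q = q := fun q => by
      obtain ⟨y, rfl⟩ := QuotientGroup.mk_surjective q
      rw [hact]
      refine congrArg QuotientGroup.mk (Subtype.ext ?_)
      show (l : G) ^ p * y * ((l : G) ^ p)⁻¹ = y
      rw [← mem_centralizer_iff.1 hlp y y.2, mul_inv_cancel_right]
    let e : Equiv.Perm (↥S ⧸ VS) :=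
      ⟨act, act^[p - 1], fun q => by
          rw [← Function.iterate_succ_apply, Nat.succ_eq_add_one, Nat.sub_add_cancel hp.one_le, hper],
        fun q => by
          rw [← Function.iterate_succ_apply' act, Nat.succ_eq_add_one, Nat.sub_add_cancel hp.one_le, hper]⟩
    have hep : e ^ p = 1 := Equiv.ext fun q => by
      rw [Equiv.Perm.coe_pow]
      exact hper q
    haveI := Fintype.ofFinite (↥S ⧸ VS)
    have hsup := Equiv.Perm.card_compl_support_modEq (p := p) (n := 1) (σ := e) (by rw [pow_one]; exact hep)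
    have hfix : e.supportᶜ = {(1 : ↥S ⧸ VS)} := by
      ext q
      rw [Finset.mem_compl, Equiv.Perm.mem_support, not_not, Finset.mem_singleton]
      refine ⟨fun hq => ?_, fun hq => by subst hq; exact map_one act⟩
      obtain ⟨y, rfl⟩ := QuotientGroup.mk_surjective q
      by_contra hy
      have hq' : (act^[1]) (y : ↥S ⧸ VS) = (y : ↥S ⧸ VS) := hq
      rw [hact, eq_comm, QuotientGroup.eq, mem_subgroupOf] at hq'
      simp only [pow_one, Subgroup.coe_mul, Subgroup.coe_inv] at hq'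
      exact hlne (H.cent_of_fix l.2 (mem_subgroupOf.1 hl).1 (by rwa [orderOf_coe]) y.2
        (fun hyV => hy ((QuotientGroup.eq_one_iff y).2 (mem_subgroupOf.2 hyV))) hq')
    rw [hfix, Finset.card_singleton, ← Nat.card_eq_fintype_card, hQ] at hsup
    have h15 : p ∣ 15 := (Nat.modEq_iff_dvd' (by norm_num)).1 hsup
    rcases hp.dvd_mul.1 (show p ∣ 3 * 5 from h15) with e | e
    · exact absurd ((Nat.prime_dvd_prime_iff_eq hp Nat.prime_three).1 e) hp3
    · exact (Nat.prime_dvd_prime_iff_eq hp (by norm_num)).1 e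
  -- `R` has order five
  obtain ⟨x₀, hx₀, hx₀V⟩ : ∃ x ∈ S, x ∉ V := by
    by_contra hno
    push Not at hno
    have := card_le_of_le (show S ≤ V from hno)
    rw [H.cardS, H.cardV] at this
    omega
  haveI : Fact (Nat.Prime 5) := ⟨by norm_num⟩
  have hfL : (⟨f, hf⟩ : ↥(normalizer (S : Set G))) ∈ L.subgroupOf (normalizer (S : Set G)) :=
    mem_subgroupOf.2 ⟨hfV, hf⟩
  have hσf : σ ⟨f, hf⟩ ≠ 1 := fun e => hfc ((hone _ hfL (by rwa [← orderOf_coe])).1 e)
  have hR5 : Nat.card R = 5 := by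
    obtain ⟨k, hk⟩ : ∃ k, Nat.card R = 5 ^ k := by
      refine ⟨_, Nat.eq_prime_pow_of_unique_prime_dvd Nat.card_pos.ne' fun {q} hq hqd => ?_⟩
      haveI : Fact q.Prime := ⟨hq⟩
      obtain ⟨r, hr⟩ := exists_prime_orderOf_dvd_card' q hqd
      exact hord r r.2 q hq (by rw [orderOf_coe, hr])
    choose sec hsec hsecσ using fun r : ↥R => r.2
    set F : ↥R → ↥S ⧸ VS := fun r => ((⟨(sec r : G) * x₀ * (sec r : G)⁻¹,
      (mem_normalizer_iff.1 (sec r).2 _).1 hx₀⟩ : ↥S) : ↥S ⧸ VS) with hF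
    have hinj : Function.Injective F := fun r r' e => by
      have h1 : (sec r)⁻¹ * sec r' ∈ L.subgroupOf (normalizer (S : Set G)) :=
        mul_mem (inv_mem (hsec r)) (hsec r')
      obtain ⟨l, hl, hle, hlo⟩ := hodd _ h1
      obtain ⟨z, hz, hlz⟩ : ∃ z ∈ K, l = (sec r)⁻¹ * sec r' * z :=
        ⟨_, QuotientGroup.eq.1 hle.symm, (mul_inv_cancel_left _ _).symm⟩
      simp only [hF] at e
      rw [QuotientGroup.eq, mem_subgroupOf] at e
      simp only [Subgroup.coe_mul, Subgroup.coe_inv] at e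
      set a := (sec r : G)⁻¹ * (sec r' : G) with ha
      have h2 : x₀⁻¹ * (a * x₀ * a⁻¹) ∈ V := by
        convert (mem_normalizer_iff''.1 (hNSV (sec r).2) _).1 e using 1
        rw [ha]; group
      have h3 := (mem_subgroupOf.1 hz).2.2 x₀ hx₀
      have h4 : x₀⁻¹ * ((l : G) * x₀ * (l : G)⁻¹) ∈ V := by
        have h5 := (mem_normalizer_iff.1 (hNSV (mul_mem (inv_mem (sec r).2) (sec r').2)) _).1 h3
        convert mul_mem h2 h5 using 1
        rw [hlz, ha]
        simp only [Subgroup.coe_mul, Subgroup.coe_inv]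
        group
      have h6 := (hone l hl hlo).2
        (H.cent_of_fix l.2 (mem_subgroupOf.1 hl).1 (by rwa [orderOf_coe]) hx₀ hx₀V h4)
      rw [h6, map_mul, map_inv, eq_comm, inv_mul_eq_one, hsecσ, hsecσ] at hle
      exact Subtype.ext hle
    have hle : Nat.card R ≤ 16 := hQ ▸ Nat.card_le_card_of_injective F hinj
    rw [hk] at hle
    rcases k with _ | _ | k
    · exfalso
      have hb : R = ⊥ := eq_bot_of_card_eq R (by rw [hk, pow_zero])
      exact hσf (mem_bot.1 (hb ▸ mem_map_of_mem σ hfL))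
    · rw [hk, pow_one]
    · exfalso
      have := Nat.pow_le_pow_right (show 0 < 5 by norm_num) (show 2 ≤ k + 1 + 1 by omega)
      norm_num at this hle
      omega
  haveI : IsCyclic ↥R := isCyclic_of_prime_card hR5
  -- `N(S)` acts trivially on `R`
  have hcent : ∀ (m l : ↥(normalizer (S : Set G))), l ∈ L.subgroupOf (normalizer (S : Set G)) →
      σ (m * l * m⁻¹) = σ l := by
    intro m l hl
    have hLn : ∀ (m l : ↥(normalizer (S : Set G))), l ∈ L.subgroupOf (normalizer (S : Set G)) →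
        m * l * m⁻¹ ∈ L.subgroupOf (normalizer (S : Set G)) := fun m l hl => by
      refine mem_subgroupOf.2 ⟨mem_centralizer_iff.2 fun w hw => ?_, (m * l * m⁻¹).2⟩
      have h1 := mem_centralizer_iff.1 (mem_subgroupOf.1 hl).1 _
        ((mem_normalizer_iff''.1 (hNSV m.2) w).1 hw)
      simp only [Subgroup.coe_mul, Subgroup.coe_inv]
      calc w * ((m : G) * l * (m : G)⁻¹) = (m : G) * ((m : G)⁻¹ * w * m * l) * (m : G)⁻¹ := by group
        _ = (m : G) * l * (m : G)⁻¹ * w := by rw [h1]; group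
    have hmN : ∀ u, σ u ∈ normalizer (R : Set (↥(normalizer (S : Set G)) ⧸ K)) := fun u => by
      rw [mem_normalizer_iff_cj]
      refine eq_of_le_of_card_ge ?_ (card_cj _ _).ge
      rintro _ ⟨r, ⟨a, ha, rfl⟩, rfl⟩
      exact ⟨u * a * u⁻¹, hLn u a ha, by simp only [map_mul, map_inv]; rfl⟩
    set ψ := R.normalizerMonoidHom with hψ
    set P : ↥(normalizer (R : Set (↥(normalizer (S : Set G)) ⧸ K))) := ⟨σ m, hmN m⟩ with hP
    obtain ⟨a, b, hb, hab⟩ := Nat.exists_eq_two_pow_mul_odd (orderOf_pos m).ne'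
    have h4 : ψ P ^ 4 = 1 := by
      haveI := Fintype.ofFinite (MulAut ↥R)
      have hc : Fintype.card (MulAut ↥R) = 4 := by
        rw [← Nat.card_eq_fintype_card, IsCyclic.card_mulAut, hR5, Nat.totient_prime (by norm_num)]
      rw [← hc]
      exact pow_card_eq_one
    have hPb : P ^ b = 1 := Subtype.ext (by
      show σ m ^ b = 1
      rw [← map_pow]
      exact hσ2 _ a (by rw [← pow_mul, mul_comm, ← hab, pow_orderOf_eq_one]))
    have hb' : ψ P ^ b = 1 := by rw [← map_pow, hPb, map_one]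
    have h1 : ψ P = 1 := mem_bot.1 (mem_of_coprime_pows (C := ⊥)
      (show Nat.Coprime 4 b from (Nat.coprime_two_left.2 hb).pow_left 2) (mem_bot.2 h4) (mem_bot.2 hb'))
    have h2 := congrArg (fun φ : MulAut ↥R => ((φ ⟨σ l, mem_map_of_mem σ hl⟩ : ↥R) : _ ⧸ K)) h1
    rw [map_mul, map_mul, map_inv]
    exact h2
  -- the Sylow 5-subgroup
  obtain ⟨b, r, hr, hfo'⟩ := Nat.exists_eq_pow_mul_and_not_dvd (orderOf_pos f).ne' 5 (by norm_num)
  have hr0 : r ≠ 0 := fun e => hr (by simp [e])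
  set f₅ := f ^ r with hf₅
  have hf5o : orderOf f₅ = 5 ^ b := by
    rw [hf₅, orderOf_pow_of_dvd hr0 (hfo' ▸ dvd_mul_left _ _), hfo',
      Nat.mul_div_cancel _ (Nat.pos_of_ne_zero hr0)]
  have hf5L : f₅ ∈ L := pow_mem (⟨hfV, hf⟩ : f ∈ L) r
  have hσ5 : σ ⟨f₅, hf5L.2⟩ ≠ 1 := fun e => by
    have h1 : σ ⟨f, hf⟩ ^ r = 1 := by
      rw [← map_pow]
      convert e using 2
      exact Subtype.ext (by simp [hf₅])
    have h2 : σ ⟨f, hf⟩ ^ 5 = 1 := by
      rw [← hR5]
      exact congrArg Subtype.val (pow_card_eq_one' (x := (⟨_, mem_map_of_mem σ hfL⟩ : ↥R)))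
    exact hσf (mem_bot.1 (mem_of_coprime_pows (C := ⊥)
      ((show Nat.Prime 5 by norm_num).coprime_iff_not_dvd.2 hr) (mem_bot.2 h2) (mem_bot.2 h1)))
  have h5π : 5 ∈ π := by
    refine h.mem_pi_of_moves (H := S) (h.sylow_ne_bot hS)
      (by rw [H.cardS]; exact piNum_prime_pow (k := 6) Nat.prime_two h.two) hf5L.2 (fun e => hσ5 ?_)
      (by norm_num) hf5o
    exact (QuotientGroup.eq_one_iff _).2 (mem_subgroupOf.2 (H.cent_le_kern e))
  obtain ⟨A₀, hA₀⟩ := (IsPGroup.of_card (p := 5) (n := b) (G := ↥(zpowers (⟨f₅, hf5L⟩ : ↥L)))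
    (by rw [Nat.card_zpowers, Subgroup.orderOf_mk, hf5o])).exists_le_sylow
  set A := (A₀ : Subgroup ↥L).map L.subtype with hA
  have hAL : A ≤ L := map_subtype_le _
  have hfA : f₅ ∈ A := ⟨⟨f₅, hf5L⟩, hA₀ (mem_zpowers _), rfl⟩
  have hAp : IsPGroup 5 A := A₀.2.map _
  have hAc : Nat.card A = 5 ^ (Nat.card L).factorization 5 := by
    rw [hA, card_map_of_injective (subtype_injective L), A₀.card_eq_multiplicity]
  have hbound : ∀ x ∈ A, x ≠ 1 → ∀ X : Subgroup G, X ≤ centralizer ({x} : Set G) → IsPGroup 5 X →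
      Nat.card X ≤ Nat.card A := by
    intro x hx hx1 X hX hXp
    have hVx : V ≤ centralizer ({x} : Set G) := fun w hw =>
      mem_centralizer_singleton_iff.2 (mem_centralizer_iff.1 (hAL hx).1 w hw)
    obtain ⟨T, hT, hVT⟩ := exists_isSyl hVx ((H.two).to_le H.le)
    obtain ⟨k, hk⟩ := hXp.exists_card_eq
    obtain ⟨Y, hY⟩ := Sylow.exists_subgroup_card_pow_prime (n := k) 5
      (h.pow_dvd_inf (h.cent_ne_top hx1) hT (by norm_num) h5π (hk ▸ card_dvd_of_le hX))
    set Y' := Y.map (centralizer ({x} : Set G) ⊓ normalizer (T : Set G)).subtype with hY'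
    have hY'c : Nat.card Y' = 5 ^ k := by rw [hY', card_map_of_injective (subtype_injective _), hY]
    have hYC : Y' ≤ centralizer (V : Set G) := fun y hy => by
      have hyN : y ∈ normalizer (V : Set G) := h.norm_syl_le hS hT.2.1 hVT ((map_subtype_le Y) hy).2
      refine mem_of_coprime_pows (a := 24) (b := 5 ^ k) ?_ (pow_four H.cardV hyN) ?_
      · exact Nat.Coprime.pow_right k (by norm_num)
      · rw [← hY'c]
        rw [show y ^ Nat.card Y' = 1 from
          congrArg Subtype.val (pow_card_eq_one' (x := (⟨y, hy⟩ : ↥Y')))]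
        exact one_mem _
    have h2 : 5 ^ k ∣ Nat.card L := by
      have h3 := h.pow_dvd_inf hCVtop (syl_of_top hS hSC) (show Nat.Prime 5 by norm_num) h5π
        (hY'c ▸ card_dvd_of_le hYC)
      exact h3
    rw [hk, hAc]
    exact Nat.pow_le_pow_right (by norm_num)
      (((show Nat.Prime 5 by norm_num).pow_dvd_iff_le_factorization Nat.card_pos.ne').1 h2)
  have hA1 : A ≠ ⊥ := fun e => hσ5 (by
    rw [show (⟨f₅, hf5L.2⟩ : ↥(normalizer (S : Set G))) = 1 from Subtype.ext (mem_bot.1 (e ▸ hfA)), map_one])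
  obtain ⟨P, hAP⟩ := hAp.exists_le_sylow
  have hPA : (P : Subgroup G) = A := by
    haveI : Nontrivial ↥A := (nontrivial_iff_ne_bot A).2 hA1
    haveI := hAp.center_nontrivial
    obtain ⟨⟨⟨z, hz⟩, hzc⟩, hz1⟩ := exists_ne (1 : ↥(center ↥A))
    have hz1' : z ≠ 1 := fun e => hz1 (Subtype.ext (Subtype.ext e))
    haveI : Nontrivial ↥(P : Subgroup G) := (nontrivial_iff_ne_bot _).2 fun e => hA1 (le_bot_iff.1 (e ▸ hAP))
    haveI := P.2.center_nontrivial
    obtain ⟨⟨⟨w, hw⟩, hwc⟩, hw1⟩ := exists_ne (1 : ↥(center ↥(P : Subgroup G)))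
    have hw1' : w ≠ 1 := fun e => hw1 (Subtype.ext (Subtype.ext e))
    have hwP : ∀ a ∈ (P : Subgroup G), a * w = w * a := fun a ha =>
      congrArg Subtype.val (mem_center_iff.1 hwc ⟨a, ha⟩)
    have hwA : w ∈ A := by
      have h1 : A ⊔ zpowers w ≤ centralizer ({z} : Set G) := sup_le
        (fun a ha => mem_centralizer_singleton_iff.2 (congrArg Subtype.val (mem_center_iff.1 hzc ⟨a, ha⟩)))
        (zpowers_le.2 (mem_centralizer_singleton_iff.2 (hwP z (hAP hz)).symm))
      have h2 := hbound z hz hz1' _ h1 (P.2.to_le (sup_le hAP (zpowers_le.2 hw)))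
      rw [eq_of_le_of_card_ge (le_sup_left : A ≤ A ⊔ zpowers w) h2]
      exact mem_sup_right (mem_zpowers w)
    exact (eq_of_le_of_card_ge hAP (hbound w hwA hw1' _
      (fun a ha => mem_centralizer_singleton_iff.2 (hwP a ha)) P.2)).symm
  -- the invariant homomorphism
  letI : CommGroup ↥R := IsCyclic.commGroup
  set φ : ↥A →* ↥R := MonoidHom.codRestrict
    (σ.comp (Subgroup.inclusion (hAL.trans inf_le_right))) R
    (fun a => mem_map_of_mem σ (mem_subgroupOf.2 (hAL a.2))) with hφ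
  have hinv : ∀ (x y : ↥A) (g : G), g * (x : G) * g⁻¹ = (y : G) → φ x = φ y := by
    rintro ⟨x, hx⟩ ⟨x', hx'⟩ g (hgx : g * x * g⁻¹ = x')
    by_cases hx1 : x = 1
    · subst hx1
      have : x' = 1 := by rw [← hgx, mul_one, mul_inv_cancel]
      subst this
      rfl
    have hx'1 : x' ≠ 1 := fun e => hx1 (conj_eq_one_iff.1 (hgx.trans e))
    set C := centralizer ({x'} : Set G) with hC
    have hVC : V ≤ C := fun w hw =>
      mem_centralizer_singleton_iff.2 (mem_centralizer_iff.1 (hAL hx').1 w hw)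
    have hgVC : cj g V ≤ C := by
      rintro _ ⟨w, hw, rfl⟩
      refine mem_centralizer_singleton_iff.2 ?_
      show g * w * g⁻¹ * x' = x' * (g * w * g⁻¹)
      rw [← hgx, show g * w * g⁻¹ * (g * x * g⁻¹) = g * (w * x) * g⁻¹ by group,
        mem_centralizer_iff.1 (hAL hx).1 w hw]
      group
    obtain ⟨T, hT, hVT⟩ := exists_isSyl hVC (H.two.to_le H.le)
    obtain ⟨k, hk, hkle⟩ := h.conj_into (h.cent_ne_top hx'1) hT hgVC (isPGroup_cj (H.two.to_le H.le))
    have hm : k * g ∈ normalizer (V : Set G) := by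
      refine mem_normalizer_iff_cj.2 (eq_of_le_of_card_ge ?_ (card_cj _ _).ge)
      rw [cj_mul]
      intro y hy
      refine h.sq_one_mem hS hT.2.1 hVT (hkle hy) ?_
      obtain ⟨u, ⟨w, hw, rfl⟩, rfl⟩ := hy
      show k * (g * w * g⁻¹) * k⁻¹ * (k * (g * w * g⁻¹) * k⁻¹) = 1
      rw [show k * (g * w * g⁻¹) * k⁻¹ * (k * (g * w * g⁻¹) * k⁻¹) = k * g * (w * w) * (g⁻¹ * k⁻¹) by group,
        H.sq w hw]
      group
    have hkx : k * g * x * (k * g)⁻¹ = x' := by
      rw [show k * g * x * (k * g)⁻¹ = k * (g * x * g⁻¹) * k⁻¹ by group, hgx,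
        mem_centralizer_singleton_iff.1 (pc_le C hk), mul_inv_cancel_right]
    obtain ⟨k', hk', n, hn, hmn⟩ := h.exists_mul hNVtop (syl_of_top hS (hSC.trans (centralizer_le_normalizer _))) hm
    have hyS : n * x * n⁻¹ ∈ normalizer (S : Set G) :=
      mul_mem (mul_mem hn.2 (hAL hx).2) (inv_mem hn.2)
    have hd : x' * (n * x * n⁻¹)⁻¹ ∈ centralizer (S : Set G) := by
      refine h.pc_centralizes hNVtop (hSC.trans (centralizer_le_normalizer _)) H.two ?_
        (mul_mem (hAL hx').2 (inv_mem hyS))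
      rw [← hkx, hmn, show k' * n * x * (k' * n)⁻¹ * (n * x * n⁻¹)⁻¹ =
        k' * ((n * x * n⁻¹) * k'⁻¹ * (n * x * n⁻¹)⁻¹) by group]
      exact mul_mem hk' ((mem_normalizer_iff.1 (normalizer_le_pc _ (le_normalizer
        (mul_mem (mul_mem hn.1 (hNSV (hAL hx).2)) (inv_mem hn.1)))) _).1 (inv_mem hk'))
    have e1 : σ ⟨x', (hAL hx').2⟩ = σ ⟨n * x * n⁻¹, hyS⟩ := by
      have h1 : σ (⟨x', (hAL hx').2⟩ * ⟨n * x * n⁻¹, hyS⟩⁻¹) = 1 :=
        (QuotientGroup.eq_one_iff _).2 (mem_subgroupOf.2 (by simpa using H.cent_le_kern hd))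
      rwa [map_mul, map_inv, mul_inv_eq_one] at h1
    have e2 := hcent ⟨n, hn.2⟩ ⟨x, (hAL hx).2⟩ (mem_subgroupOf.2 (hAL hx))
    refine Subtype.ext ?_
    show σ ⟨x, (hAL hx).2⟩ = σ ⟨x', (hAL hx').2⟩
    rw [e1, ← e2]
    rfl
  -- the transfer
  have hidx : ¬ 5 ∣ A.index := hPA ▸ P.not_dvd_index
  set τ := MonoidHom.transfer φ with hτ
  have h1 : τ f₅ = φ ⟨f₅, hfA⟩ ^ A.index := transfer_pow_index φ hinv ⟨f₅, hfA⟩
  have hne : φ ⟨f₅, hfA⟩ ≠ 1 := fun e => hσ5 (congrArg Subtype.val e)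
  have hker : τ.ker ≠ ⊤ := fun e => by
    have h2 : τ f₅ = 1 := (e ▸ mem_top f₅ : f₅ ∈ τ.ker)
    refine hne (mem_bot.1 (mem_of_coprime_pows (C := ⊥)
      ((show Nat.Prime 5 by norm_num).coprime_iff_not_dvd.2 hidx) (mem_bot.2 ?_) (mem_bot.2 (h1 ▸ h2))))
    rw [← hR5]
    exact pow_card_eq_one'
  have hker' : τ.ker = ⊥ := (inferInstance : τ.ker.Normal).eq_bot_or_eq_top.resolve_right hker
  exact h.na ⟨⟨fun a b => (τ.ker_eq_bot_iff.1 hker') (by rw [map_mul, map_mul, mul_comm])⟩⟩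

end Min

end CfsgLib.PiHomog
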