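import Cfsg.Agent.Lib.PiHomog.Basic

/-!
# S3258: the centre of a Sylow 2-subgroup is strongly closed, and no proper subgroup carries it

`V = Ω₁(Z(S))` is strongly closed in `S`, and a proper subgroup containing `N(S)` and the centralisers of the
involutions of `V` is impossible: an involution would invert an element moving one involution of `V` to another.
-/

set_option autoImplicit false
set_option linter.unusedSectionVars false
set_option linter.style.haveILetI false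

namespace CfsgLib.PiHomog

open Subgroup CfsgLib.CIT
open CfsgLib.Signalizer (involution_sq involution_inv involution_ne_one orderOf_eq_two_of orderOf_conj)

variable {π : Set ℕ} {G : Type*} [Group G] [Finite G]

theorem isSyl_top (S : Sylow 2 G) : IsSyl (S : Subgroup G) ⊤ :=
  ⟨le_top, S.2, fun _ h1 _ h2 => S.3 h2 h1⟩

theorem syl_of_top {S H : Subgroup G} (hS : IsSyl S ⊤) (hle : S ≤ H) : IsSyl S H :=
  ⟨hle, hS.2.1, fun Q h1 _ h2 => hS.2.2 Q h1 le_top h2⟩

namespace Min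

variable [IsSimpleGroup G] (h : Min π G)
include h

theorem sylow_ne_bot {S : Subgroup G} (hS : IsSyl S ⊤) : S ≠ ⊥ := by
  intro e
  obtain ⟨t, -, ht⟩ := Signalizer.exists_involution_of_even (H := (⊤ : Subgroup G))
    (by rw [card_top]; exact h.even)
  obtain ⟨T, hT, htT⟩ := exists_isSyl (le_top : zpowers t ≤ ⊤)
    (IsPGroup.of_card (p := 2) (n := 1) (by rw [Nat.card_zpowers, ht, pow_one]))
  have h1 := hT.card_eq hS
  rw [e, card_bot] at h1
  have := T.orderOf_dvd_natCard (htT (mem_zpowers t))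
  rw [h1, ht] at this
  norm_num at this

/-- An element of a Sylow 2-subgroup central in another one is central in both. -/
theorem central_of_mem {w : G} (hw1 : w ≠ 1) : ∀ (n : ℕ) (S S' : Subgroup G), IsSyl S ⊤ → IsSyl S' ⊤ →
    Nat.card G - Nat.card (S ⊓ S' : Subgroup G) ≤ n → w ∈ S → w ∈ S' → (∀ x ∈ S', x * w = w * x) →
    ∀ x ∈ S, x * w = w * x := by
  intro n
  induction n with
  | zero =>
    intro S S' hS hS' hn hw hw' hc
    exfalso
    have h1 : S ⊓ S' = ⊤ := eq_top_of_card_eq _ (by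
      have := card_le_card_group (S ⊓ S' : Subgroup G)
      omega)
    haveI : Fact (Nat.Prime 2) := ⟨Nat.prime_two⟩
    haveI : Nontrivial G := ⟨⟨w, 1, hw1⟩⟩
    have hG : IsPGroup 2 (⊤ : Subgroup G) := h1 ▸ hS.2.1.to_le inf_le_left
    have hG' : IsPGroup 2 G := hG.of_equiv Subgroup.topEquiv
    haveI := hG'.center_nontrivial
    exact (nontrivial_iff_ne_bot _).1 inferInstance h.center_eq_bot
  | succ n ih =>
    intro S S' hS hS' hn hw hw' hc x hx
    by_cases heq : S = S'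
    · exact hc x (heq ▸ hx)
    set R := S ⊓ S' with hR
    have hR1 : R ≠ ⊥ := fun e => hw1 (mem_bot.1 (e ▸ (⟨hw, hw'⟩ : w ∈ R)))
    have hlt : R < S := lt_of_le_of_ne inf_le_left fun e =>
      heq (eq_of_le_of_card_ge (e ▸ inf_le_right : S ≤ S') (hS.card_eq hS').ge)
    have hlt' : R < S' := lt_of_le_of_ne inf_le_right fun e =>
      heq (eq_of_le_of_card_ge (e ▸ inf_le_left : S' ≤ S) (hS.card_eq hS').le).symm
    obtain ⟨g, hgS, hgR, hgN⟩ := exists_normalizing hS.2.1 hlt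
    obtain ⟨g', hgS', hgR', hgN'⟩ := exists_normalizing hS'.2.1 hlt'
    have hRtop : R ≠ ⊤ := fun e => hgR (e ▸ mem_top g)
    have hHtop := h.normalizer_ne_top hR1 hRtop
    set H := normalizer (R : Set G) with hH
    obtain ⟨TH, hTH, hSH⟩ := exists_isSyl (inf_le_right : S ⊓ H ≤ H) (hS.2.1.to_le inf_le_left)
    obtain ⟨k, hk, hle⟩ := h.conj_into hHtop hTH (inf_le_right : S' ⊓ H ≤ H) (hS'.2.1.to_le inf_le_left)
    obtain ⟨S2, hS2, hle2⟩ := exists_isSyl (le_top : TH ≤ ⊤) hTH.2.1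
    have hRH : R ≤ H := le_normalizer
    have hkR := mem_centralizer_iff.1 (h.pc_centralizes hHtop hRH (hS.2.1.to_le inf_le_left) hk (pc_le H hk))
    have hRS2 : R ≤ S2 := fun r hr => hle2 (hSH ⟨hlt.le hr, hRH hr⟩)
    have hkRS' : R ≤ cj k S' := fun r hr => mem_cj.2 (by
      rw [mul_assoc, hkR r hr, inv_mul_cancel_left]; exact hlt'.le hr)
    have hsyl' : IsSyl (cj k S') ⊤ := hS'.cj_of_mem (by rw [normalizer_eq_top_iff.2 inferInstance]; trivial)
    have hkw : k⁻¹ * w * k = w := by rw [mul_assoc, hkR w ⟨hw, hw'⟩, inv_mul_cancel_left]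
    have hcent : ∀ y ∈ cj k S', y * w = w * y := fun y hy => by
      have h1 := hc _ (mem_cj.1 hy)
      calc y * w = k * ((k⁻¹ * y * k) * (k⁻¹ * w * k)) * k⁻¹ := by group
        _ = k * ((k⁻¹ * w * k) * (k⁻¹ * y * k)) * k⁻¹ := by rw [hkw, h1]
        _ = w * y := by group
    have hbig : ∀ {P Q : Subgroup G} {g : G}, R ≤ P ⊓ Q → g ∈ P ⊓ Q → g ∉ R →
        Nat.card G - Nat.card (P ⊓ Q : Subgroup G) ≤ n := by
      intro P Q g hle hg hgR
      have h1 : Nat.card R < Nat.card (P ⊓ Q : Subgroup G) :=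
        Set.ncard_lt_ncard (s := (R : Set G)) ⟨hle, fun h' => hgR (h' hg)⟩ (Set.toFinite _)
      have h2 := card_le_card_group (P ⊓ Q : Subgroup G)
      omega
    -- `g'` moved by `k`
    have hk' : k * g' * k⁻¹ ∈ S2 ⊓ cj k S' :=
      ⟨hle2 (hle (conj_mem_cj.2 ⟨hgS', hgN'⟩)), conj_mem_cj.2 hgS'⟩
    have hk'R : k * g' * k⁻¹ ∉ R := fun hm => hgR' (by
      have := hkR _ hm
      rwa [show g' = k⁻¹ * (k * g' * k⁻¹) * k by group, mul_assoc, hkR _ hm, inv_mul_cancel_left])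
    have h2 : ∀ y ∈ S2, y * w = w * y := ih S2 (cj k S') hS2 hsyl'
      (hbig (le_inf hRS2 hkRS') hk' hk'R) (hRS2 ⟨hw, hw'⟩) (hkRS' ⟨hw, hw'⟩) hcent
    exact ih S S2 hS hS2 (hbig (le_inf hlt.le hRS2) ⟨hgS, hle2 (hSH ⟨hgS, hgN⟩)⟩ hgR) hw
      (hRS2 ⟨hw, hw'⟩) h2 x hx

variable {S : Subgroup G} (hS : IsSyl S ⊤)
include hS

/-- `V` is strongly closed in `S`. -/
theorem closed_Vz {v g : G} (hv : v ∈ Vz S) (hg : g * v * g⁻¹ ∈ S) :
    g * v * g⁻¹ ∈ Vz S ∧ ∃ n ∈ normalizer (S : Set G), g * v * g⁻¹ = n * v * n⁻¹ := by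
  by_cases hv1 : v = 1
  · exact ⟨by rw [hv1, mul_one, mul_inv_cancel]; exact one_mem _, 1, one_mem _, by
      rw [hv1]; group⟩
  obtain ⟨hvS, hv2, hvc⟩ := hv
  set w := g * v * g⁻¹ with hw
  have hS' : IsSyl (cj g S) ⊤ := hS.cj_of_mem (by rw [normalizer_eq_top_iff.2 inferInstance]; trivial)
  have hw1 : w ≠ 1 := fun e => hv1 (conj_eq_one_iff.1 e)
  have hc' : ∀ x ∈ cj g S, x * w = w * x := fun x hx => by
    calc x * w = g * ((g⁻¹ * x * g) * v) * g⁻¹ := by rw [hw]; group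
      _ = g * (v * (g⁻¹ * x * g)) * g⁻¹ := by rw [hvc _ (mem_cj.1 hx)]
      _ = w * x := by rw [hw]; group
  have hcS := h.central_of_mem hw1 _ S (cj g S) hS hS' le_rfl hg (conj_mem_cj.2 hvS) hc'
  have hwV : w ∈ Vz S := ⟨hg, by rw [hw, show g * v * g⁻¹ * (g * v * g⁻¹) = g * (v * v) * g⁻¹ by group,
    hv2, mul_one, mul_inv_cancel], hcS⟩
  refine ⟨hwV, ?_⟩
  have hSC : S ≤ centralizer ({w} : Set G) := fun x hx => mem_centralizer_singleton_iff.2 (hcS x hx)
  have hgC : cj g S ≤ centralizer ({w} : Set G) := fun x hx => mem_centralizer_singleton_iff.2 (hc' x hx)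
  obtain ⟨c, hc, e⟩ := (syl_of_top hS' hgC).exists_conj (syl_of_top hS hSC)
  refine ⟨c * g, ?_, ?_⟩
  · rw [mem_normalizer_iff_cj, cj_mul, e]
  · calc w = c * w * c⁻¹ := by rw [mem_centralizer_singleton_iff.1 hc, mul_inv_cancel_right]
      _ = c * g * v * (c * g)⁻¹ := by rw [hw]; group

/-- Two commuting conjugates of elements of `V` lie in one conjugate of `V`. -/
theorem exists_common {a b v v' c c' : G} (hv : v ∈ Vz S) (hv' : v' ∈ Vz S) (ha : a = c * v * c⁻¹)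
    (hb : b = c' * v' * c'⁻¹) (hab : a * b = b * a) :
    ∃ x, x⁻¹ * a * x ∈ Vz S ∧ x⁻¹ * b * x ∈ Vz S := by
  have ha2 : a * a = 1 := by
    rw [ha, show c * v * c⁻¹ * (c * v * c⁻¹) = c * (v * v) * c⁻¹ by group, hv.2.1, mul_one, mul_inv_cancel]
  have hb2 : b * b = 1 := by
    rw [hb, show c' * v' * c'⁻¹ * (c' * v' * c'⁻¹) = c' * (v' * v') * c'⁻¹ by group, hv'.2.1, mul_one,
      mul_inv_cancel]
  have hz : ∀ {y : G}, y * y = 1 → InvCent.Elem (zpowers y) := fun {y} hy z hz => by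
    obtain ⟨i, rfl⟩ := mem_zpowers_iff.1 hz
    rw [← (Commute.refl y).mul_zpow, hy, one_zpow]
  have hel : InvCent.Elem (zpowers a ⊔ zpowers b) := (hz ha2).sup (hz hb2) fun p hp r hr => by
    obtain ⟨i, rfl⟩ := mem_zpowers_iff.1 hp
    obtain ⟨j, rfl⟩ := mem_zpowers_iff.1 hr
    exact (Commute.zpow_zpow (show Commute a b from hab) i j).eq
  obtain ⟨R, hR, hle⟩ := exists_isSyl (le_top : zpowers a ⊔ zpowers b ≤ ⊤) hel.isPGroup
  obtain ⟨x, -, hx⟩ := hS.exists_conj hR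
  have key : ∀ {y v c : G}, v ∈ Vz S → y = c * v * c⁻¹ → y ∈ R → x⁻¹ * y * x ∈ Vz S := by
    intro y v c hv hy hyR
    have h1 : x⁻¹ * c * v * (x⁻¹ * c)⁻¹ = x⁻¹ * y * x := by rw [hy]; group
    have h2 := (h.closed_Vz hS hv (g := x⁻¹ * c) (h1 ▸ mem_cj.1 (hx ▸ hyR))).1
    rwa [h1] at h2
  exact ⟨x, key hv ha (hle (mem_sup_left (mem_zpowers a))), key hv' hb (hle (mem_sup_right (mem_zpowers b)))⟩

/-- `|V| ≥ 4`. -/
theorem four_le_Vz : 4 ≤ Nat.card (Vz S) := by
  classical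
  haveI : Fact (Nat.Prime 2) := ⟨Nat.prime_two⟩
  haveI : Nontrivial S := (nontrivial_iff_ne_bot S).2 (h.sylow_ne_bot hS)
  haveI := hS.2.1.center_nontrivial
  obtain ⟨n, hn⟩ := (Vz_elem S).isPGroup.exists_card_eq
  obtain ⟨⟨c, hc⟩, hc'⟩ := exists_prime_orderOf_dvd_card' (G := center S) 2 (by
    obtain ⟨k, hk⟩ := (hS.2.1.to_subgroup (center S)).exists_card_eq
    rw [hk]
    refine dvd_pow_self 2 fun e => ?_
    have := Finite.one_lt_card (α := center S)
    rw [hk, e, pow_zero] at this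
    exact lt_irrefl 1 this)
  have hz2 : orderOf (c : G) = 2 := by rw [orderOf_coe]; rwa [Subgroup.orderOf_mk] at hc'
  set z := (c : G) with hz
  have hzV : z ∈ Vz S := ⟨c.2, involution_sq hz2, fun s hs =>
    congrArg Subtype.val (mem_center_iff.1 hc ⟨s, hs⟩)⟩
  by_contra hlt
  have hcard : Nat.card (Vz S) = 2 := by
    have h1 : 1 < Nat.card (Vz S) := by
      rw [one_lt_card_iff_ne_bot]
      exact fun e => involution_ne_one hz2 (mem_bot.1 (e ▸ hzV))
    rw [hn] at hlt h1 ⊢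
    rcases n with _ | _ | n
    · simp at h1
    · rfl
    · exact absurd (show 4 ≤ 2 ^ (n + 2) by rw [pow_add]; have := Nat.one_le_two_pow (n := n); omega) hlt
  have huniq : ∀ y ∈ Vz S, y ≠ 1 → y = z := by
    intro y hy hy1
    by_contra hne
    have : ({1, y, z} : Set G).ncard ≤ (Vz S : Set G).ncard := Set.ncard_le_ncard (by
      rintro x (rfl | rfl | rfl)
      exacts [one_mem _, hy, hzV]) (Set.toFinite _)
    rw [Set.ncard_eq_three.2 ⟨1, y, z, Ne.symm hy1, (involution_ne_one hz2).symm, hne, rfl⟩,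
      ← Nat.card_coe_set_eq, SetLike.coe_sort_coe, hcard] at this
    omega
  have hiso : Cfsg.IsIsolatedInvolution z := by
    refine ⟨hz2, fun g hg => ?_⟩
    obtain ⟨x, hx1, hx2⟩ := h.exists_common hS (a := z) (b := g * z * g⁻¹) (c := 1) (c' := g) hzV hzV
      (by group) rfl hg
    have e1 := huniq _ hx1 (fun e => involution_ne_one hz2 (by
      rwa [show x⁻¹ * z * x = x⁻¹ * z * x⁻¹⁻¹ by group, conj_eq_one_iff] at e))
    have e2 := huniq _ hx2 (fun e => involution_ne_one hz2 (by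
      rwa [show x⁻¹ * (g * z * g⁻¹) * x = x⁻¹ * g * z * (x⁻¹ * g)⁻¹ by group, conj_eq_one_iff] at e))
    calc g * z * g⁻¹ = x * (x⁻¹ * (g * z * g⁻¹) * x) * x⁻¹ := by group
      _ = x * (x⁻¹ * z * x) * x⁻¹ := by rw [e2, e1]
      _ = z := by group
  have hO : Cfsg.oddCore G = ⊥ := by
    rcases (inferInstance : (Cfsg.oddCore G).Normal).eq_bot_or_eq_top with e | e
    · exact e
    · have := ZStar.odd_card_oddCore G
      rw [e, card_top] at this
      exact absurd h.even (Nat.not_even_iff_odd.2 this)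
  refine involution_ne_one hz2 (mem_bot.1 (h.center_eq_bot ▸ mem_center_iff.2 fun g => ?_))
  have h1 := ZStar.mem_oddCore_of_isolated hiso g
  rw [hO, mem_bot, mul_inv_eq_one, mul_inv_eq_iff_eq_mul] at h1
  exact h1.symm

/-- No proper subgroup contains `N(S)` and the centralisers of the involutions of `V`. -/
theorem no_carrier {M : Subgroup G} (hM : M ≠ ⊤) (hNM : normalizer (S : Set G) ≤ M)
    (hCM : ∀ v ∈ Vz S, v ≠ 1 → centralizer ({v} : Set G) ≤ M) : False := by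
  classical
  have hSM : S ≤ M := le_normalizer.trans hNM
  have hT : IsSyl S M := syl_of_top hS hSM
  have hb : ∀ v ∈ Vz S, v ≠ 1 → ∀ g : G, g * v * g⁻¹ ∈ M → g ∈ M := by
    intro v hv hv1 g hg
    have hv2 : orderOf v = 2 := orderOf_eq_two_of hv1 hv.2.1
    obtain ⟨T', hT', hle⟩ := exists_isSyl (zpowers_le.2 hg)
      (IsPGroup.of_card (p := 2) (n := 1) (by rw [Nat.card_zpowers, orderOf_conj, hv2, pow_one]))
    obtain ⟨m, hm, hme⟩ := hT'.exists_conj hT
    have h1 : m * g * v * (m * g)⁻¹ ∈ S := by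
      rw [show m * g * v * (m * g)⁻¹ = m * (g * v * g⁻¹) * m⁻¹ by group]
      exact hme ▸ conj_mem_cj.2 (hle (mem_zpowers _))
    obtain ⟨-, n, hn, e⟩ := h.closed_Vz hS hv h1
    have h2 : n⁻¹ * (m * g) ∈ M := hCM v hv hv1 (mem_centralizer_singleton_iff.2 (by
      calc n⁻¹ * (m * g) * v = n⁻¹ * (m * g * v * (m * g)⁻¹) * (m * g) := by group
        _ = v * (n⁻¹ * (m * g)) := by rw [e]; group))
    rw [show g = m⁻¹ * n * (n⁻¹ * (m * g)) by group]
    exact mul_mem (mul_mem (inv_mem hm) (hNM hn)) h2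
  obtain ⟨g, hgM⟩ : ∃ g : G, g ∉ M := by
    by_contra hno
    push Not at hno
    exact hM (eq_top_iff.2 fun g _ => hno g)
  obtain ⟨s1, s2, hs1, hs2, hne⟩ : ∃ s1 s2 : G, (s1 ∈ Vz S ∧ s1 ≠ 1) ∧ (s2 ∈ Vz S ∧ s2 ≠ 1) ∧ s1 ≠ s2 := by
    have h4 := h.four_le_Vz hS
    haveI : Fintype ↥(Vz S) := Fintype.ofFinite _
    obtain ⟨a, b, c, -, -, -, hab, hac, hbc⟩ := (Finset.two_lt_card_iff (s :=
      (Finset.univ : Finset ↥(Vz S)))).1 (by rw [Finset.card_univ, ← Nat.card_eq_fintype_card]; omega)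
    have key : ∀ a b : ↥(Vz S), a ≠ 1 → b ≠ 1 → a ≠ b →
        ∃ s1 s2 : G, (s1 ∈ Vz S ∧ s1 ≠ 1) ∧ (s2 ∈ Vz S ∧ s2 ≠ 1) ∧ s1 ≠ s2 := fun a b ha hb hab =>
      ⟨a, b, ⟨a.2, fun h' => ha (Subtype.ext h')⟩, ⟨b.2, fun h' => hb (Subtype.ext h')⟩,
        fun h' => hab (Subtype.ext h')⟩
    by_cases ha : a = 1
    · exact key b c (fun h' => hab (ha.trans h'.symm)) (fun h' => hac (ha.trans h'.symm)) hbc
    by_cases hb : b = 1
    · exact key a c ha (fun h' => hbc (hb.trans h'.symm)) hac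
    · exact key a b ha hb hab
  have ho1 : orderOf s1 = 2 := orderOf_eq_two_of hs1.2 hs1.1.2.1
  set s' := g * s1 * g⁻¹ with hs'
  have ho' : orderOf s' = 2 := (orderOf_conj g s1).trans ho1
  -- an involution outside carrying `s` to `s'`
  have hswap : ∀ s ∈ Vz S, s ≠ 1 → ∃ w, orderOf w = 2 ∧ w * s * w⁻¹ = s' := by
    intro s hs hs0
    have hso : orderOf s = 2 := orderOf_eq_two_of hs0 hs.2.1
    have hodd : Odd (orderOf (s * s')) := by
      by_contra he
      obtain ⟨m, hm⟩ := Nat.not_odd_iff_even.1 he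
      set u := s * s' with hu
      have hm0 : m ≠ 0 := fun e => by
        subst e
        exact (orderOf_pos u).ne' (by simpa using hm)
      set c := u ^ m with hc
      have hcc : c * c = 1 := by rw [hc, ← pow_add, ← hm, pow_orderOf_eq_one]
      have hc1 : c ≠ 1 := fun e => by
        have := Nat.le_of_dvd (Nat.pos_of_ne_zero hm0) (orderOf_dvd_of_pow_eq_one e)
        omega
      have hsu : ∀ k : ℕ, s * u ^ k = (u ^ k)⁻¹ * s := fun k => by
        rw [← zpow_natCast, Signalizer.mul_pair_zpow hso ho', zpow_neg]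
      have hsc : s * c = c * s := by rw [hc, hsu, ← hc, inv_eq_of_mul_eq_one_right hcc]
      -- `s c` is a conjugate of `s` or of `s'`
      obtain ⟨a, v', hv', hav⟩ : ∃ a v', v' ∈ Vz S ∧ s * c = a * v' * a⁻¹ := by
        obtain ⟨i, hi⟩ | ⟨i, hi⟩ := Nat.even_or_odd m
        · refine ⟨(u ^ i)⁻¹, s, hs, ?_⟩
          rw [hc, hsu, inv_inv, mul_assoc, hsu, ← mul_assoc, ← mul_inv_rev, ← pow_add, ← hi]
        · refine ⟨(u ^ i)⁻¹ * g, s1, hs1.1, ?_⟩
          have e1 : (u ^ i)⁻¹ * g * s1 * ((u ^ i)⁻¹ * g)⁻¹ = (u ^ i)⁻¹ * s' * u ^ i := by rw [hs']; group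
          have e2 : s' = s * u := by rw [hu, ← mul_assoc, involution_sq hso, one_mul]
          rw [e1, e2, hc, mul_assoc, mul_assoc, ← pow_succ', hsu, hsu, ← mul_assoc, ← mul_inv_rev,
            ← pow_add]
          congr 3
          omega
      obtain ⟨x, hx1, hx2⟩ := h.exists_common hS (a := s) (b := s * c) (c := 1) (c' := a) hs hv'
        (by group) hav (by rw [mul_assoc, ← hsc])
      have hc0 : x⁻¹ * c * x ∈ Vz S := by
        have := mul_mem hx1 hx2
        rwa [show x⁻¹ * s * x * (x⁻¹ * (s * c) * x) = x⁻¹ * ((s * s) * c) * x by group,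
          involution_sq hso, one_mul] at this
      have hcM := hCM _ hc0 (fun e => hc1 (by
        rwa [show x⁻¹ * c * x = x⁻¹ * c * x⁻¹⁻¹ by group, conj_eq_one_iff] at e))
      have hin : ∀ y, y * c = c * y → x⁻¹ * y * x ∈ M := fun y hy => hcM
        (mem_centralizer_singleton_iff.2 (by
          calc x⁻¹ * y * x * (x⁻¹ * c * x) = x⁻¹ * (y * c) * x := by group
            _ = x⁻¹ * c * x * (x⁻¹ * y * x) := by rw [hy]; group))
      have hxM : x⁻¹ ∈ M := hb s hs hs0 x⁻¹ (by rw [inv_inv]; exact hin s hsc)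
      have hs'c : s' * c = c * s' := by
        rw [show s' = s * u by rw [hu, ← mul_assoc, involution_sq hso, one_mul], mul_assoc,
          show u * c = c * u from ((Commute.refl u).pow_right m).eq, ← mul_assoc, hsc, mul_assoc]
      have h3 : s' ∈ M := by
        rw [show s' = x⁻¹⁻¹ * (x⁻¹ * s' * x) * x⁻¹ by group]
        exact mul_mem (mul_mem (inv_mem hxM) (hin s' hs'c)) hxM
      exact hgM (hb s1 hs1.1 hs1.2 g h3)
    obtain ⟨n, hn⟩ := hodd
    set u := s * s' with hu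
    set r := (u ^ (n + 1))⁻¹ with hr
    have hr2 : r * r = u⁻¹ := by
      rw [hr, ← mul_inv_rev, ← pow_add, show n + 1 + (n + 1) = (2 * n + 1) + 1 by omega, pow_succ,
        ← hn, pow_orderOf_eq_one, one_mul]
    have hsr : s * r = r⁻¹ * s := by
      rw [hr, inv_inv, ← zpow_natCast, ← zpow_neg, Signalizer.mul_pair_zpow hso ho', neg_neg]
    refine ⟨r * s, orderOf_eq_two_of (fun e => ?_) ?_, ?_⟩
    · have h1 : Odd (orderOf r) := by
        rw [hr, orderOf_inv]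
        exact Odd.of_dvd_nat (n := orderOf u) ⟨n, hn⟩ (orderOf_pow_dvd _)
      rw [eq_inv_of_mul_eq_one_left e, involution_inv hso, hso] at h1
      exact absurd h1 (by decide)
    · rw [mul_assoc, ← mul_assoc s, hsr, mul_assoc, involution_sq hso, mul_one, mul_inv_cancel]
    · have h4 : r * s = s * r⁻¹ := by
        calc r * s = r * (s * r) * r⁻¹ := by group
          _ = s * r⁻¹ := by rw [hsr]; group
      calc r * s * s * (r * s)⁻¹ = r * (s * s) * (s⁻¹ * r⁻¹) := by group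
        _ = r * (r * s) := by rw [involution_sq hso, involution_inv hso, mul_one, h4]
        _ = u⁻¹ * s := by rw [← mul_assoc, hr2]
        _ = s' := by
          rw [hu, mul_inv_rev, involution_inv hso, involution_inv ho', mul_assoc, involution_sq hso, mul_one]
  obtain ⟨w1, hw1, hw1s⟩ := hswap s1 hs1.1 hs1.2
  obtain ⟨w2, hw2, hw2s⟩ := hswap s2 hs2.1 hs2.2
  set d := w2 * w1 with hd
  have hds : d * s1 * d⁻¹ = s2 := by
    calc d * s1 * d⁻¹ = w2 * (w1 * s1 * w1⁻¹) * w2⁻¹ := by rw [hd]; group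
      _ = (w2 * w2) * s2 * (w2 * w2)⁻¹ := by rw [hw1s, ← hw2s]; group
      _ = s2 := by rw [involution_sq hw2, one_mul, inv_one, mul_one]
  have hdM : d ∈ M := hb s1 hs1.1 hs1.2 d (hds ▸ hSM hs2.1.1)
  have hdinv : w1 * d * w1⁻¹ = d⁻¹ := by
    rw [hd, mul_inv_rev, involution_inv hw1, involution_inv hw2, mul_assoc, mul_assoc, involution_sq hw1,
      mul_one]
  obtain ⟨a, m, hm, hdo⟩ := Nat.exists_eq_two_pow_mul_odd (orderOf_pos d).ne'
  set x := d ^ 2 ^ a with hx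
  have hxo : orderOf x = m := by
    rw [hx, orderOf_pow_of_dvd (pow_ne_zero _ two_ne_zero) (hdo ▸ dvd_mul_right _ _), hdo,
      Nat.mul_div_cancel_left _ (pow_pos two_pos a)]
  have hxK : x ∈ pc π M := (h.mem_pc hM).2 ⟨pow_mem hdM _,
    h.inverted hw1 (hxo ▸ hm) (by rw [hx, ← conj_pow, hdinv, inv_pow])⟩
  -- modulo the `π'`-part `d` is a 2-element
  have hKn : M ≤ normalizer (pc π M : Set G) := le_normalizer.trans (normalizer_le_pc M)
  haveI : ((pc π M).subgroupOf M).Normal := normal_subgroupOf_of_le_normalizer hKn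
  set q := QuotientGroup.mk' ((pc π M).subgroupOf M) with hq
  have hq1 : ∀ (y : ↥M), (y : G) ∈ pc π M → q y = 1 := fun y hy =>
    (QuotientGroup.eq_one_iff y).2 (mem_subgroupOf.2 hy)
  have hd2 : (d ^ m) ^ 2 ^ a = 1 := by rw [← pow_mul, mul_comm, ← hdo, pow_orderOf_eq_one]
  obtain ⟨k, hk, hkle⟩ := h.conj_into hM hT (zpowers_le.2 (pow_mem hdM m) : zpowers (d ^ m) ≤ M)
    (by
      obtain ⟨j, -, hj⟩ := (Nat.dvd_prime_pow Nat.prime_two).1 (orderOf_dvd_of_pow_eq_one hd2)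
      exact IsPGroup.of_card (n := j) (by rw [Nat.card_zpowers, hj]))
  have hσ : k * d ^ m * k⁻¹ ∈ S := hkle (conj_mem_cj.2 (mem_zpowers _))
  obtain ⟨i, j, hij⟩ : ∃ i j : ℤ, (2 : ℤ) ^ a * i + (m : ℤ) * j = 1 := by
    have hco : IsCoprime ((2 : ℤ) ^ a) (m : ℤ) := by
      have := (Nat.Coprime.pow_left a (Nat.coprime_two_left.2 hm)).isCoprime
      simpa using this
    obtain ⟨i, j, e⟩ := hco
    exact ⟨i, j, by linear_combination e⟩
  set D : ↥M := ⟨d, hdM⟩ with hD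
  have hqd : q D = q ⟨k * d ^ m * k⁻¹, hSM hσ⟩ ^ j := by
    have h1 : q ⟨k * d ^ m * k⁻¹, hSM hσ⟩ = q D ^ (m : ℤ) := by
      rw [show (⟨k * d ^ m * k⁻¹, hSM hσ⟩ : ↥M) = ⟨k, pc_le M hk⟩ * D ^ m * ⟨k, pc_le M hk⟩⁻¹ from
        Subtype.ext (by simp [hD]), map_mul, map_mul, map_inv, hq1 ⟨k, pc_le M hk⟩ hk, one_mul, inv_one,
        mul_one, map_pow, zpow_natCast]
    have h2 : q D ^ ((2 : ℤ) ^ a) = 1 := by
      rw [show ((2 : ℤ) ^ a) = ((2 ^ a : ℕ) : ℤ) by push_cast; rfl, zpow_natCast, ← map_pow]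
      exact hq1 _ (by rw [hD, Subgroup.coe_pow]; exact hxK)
    calc q D = q D ^ ((2 : ℤ) ^ a * i + (m : ℤ) * j) := by rw [hij, zpow_one]
      _ = _ := by rw [zpow_add, zpow_mul, zpow_mul, h2, one_zpow, one_mul, h1]
  set S1 : ↥M := ⟨s1, hSM hs1.1.1⟩ with hS1
  set S2 : ↥M := ⟨s2, hSM hs2.1.1⟩ with hS2
  have hcomm : Commute (q ⟨k * d ^ m * k⁻¹, hSM hσ⟩) (q S1) := by
    rw [Commute, SemiconjBy, ← map_mul, ← map_mul]
    exact congrArg q (Subtype.ext (hs1.1.2.2 _ hσ))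
  have heq : q S2 = q S1 := by
    rw [show S2 = D * S1 * D⁻¹ from Subtype.ext hds.symm, map_mul, map_mul, map_inv, hqd,
      (hcomm.zpow_left j).eq, mul_inv_cancel_right]
  have hmem : s1⁻¹ * s2 ∈ pc π M := by
    have := QuotientGroup.eq.1 heq.symm
    rwa [mem_subgroupOf] at this
  have h3 := ZStar.eq_one_of_odd_of_sq ((h.odd_pc hM).of_dvd_nat (orderOf_dvd_natCard _ hmem))
    (by rw [pow_two]; exact Vz_elem S _ (mul_mem (inv_mem hs1.1) hs2.1))
  exact hne (inv_mul_eq_one.1 h3)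

end Min

end CfsgLib.PiHomog
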