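import Cfsg.Agent.Lib.PiHomog.Basic
import Cfsg.Agent.Lib.Core.SchurZassenhaus

/-!
# S3258: the hypotheses pass to subgroups and to quotients by `π`- and `π'`-subgroups
-/

set_option autoImplicit false
set_option linter.unusedSectionVars false
set_option linter.style.haveILetI false

namespace CfsgLib.PiHomog

open Subgroup CfsgLib.CIT

variable {π : Set ℕ}

theorem exists_pi_split (π : Set ℕ) {n : ℕ} (hn : n ≠ 0) : ∃ a b, PiNum π a ∧ CoNum π b ∧ n = a * b := by
  classical
  induction n using Nat.recOnMul with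
  | zero => exact absurd rfl hn
  | one => exact ⟨1, 1, fun p hp h => absurd (Nat.dvd_one.1 h) hp.ne_one, coNum_one, rfl⟩
  | prime p hp =>
    by_cases hpπ : p ∈ π
    · exact ⟨p, 1, fun r hr hd => by rwa [(Nat.prime_dvd_prime_iff_eq hr hp).1 hd], coNum_one,
        (mul_one p).symm⟩
    · exact ⟨1, p, fun r hr h => absurd (Nat.dvd_one.1 h) hr.ne_one,
        fun r hr hd => by rwa [(Nat.prime_dvd_prime_iff_eq hr hp).1 hd], (one_mul p).symm⟩
  | mul x y ihx ihy =>
    obtain ⟨hx, hy⟩ := mul_ne_zero_iff.1 hn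
    obtain ⟨a, b, ha, hb, rfl⟩ := ihx hx
    obtain ⟨a', b', ha', hb', rfl⟩ := ihy hy
    exact ⟨a * a', b * b', fun p hp hd => (hp.dvd_mul.1 hd).elim (ha p hp) (ha' p hp),
      fun p hp hd => (hp.dvd_mul.1 hd).elim (hb p hp) (hb' p hp), mul_mul_mul_comm _ _ _ _⟩

variable {G : Type*} [Group G] [Finite G]

theorem normal_centralizer_in_normalizer (H : Subgroup G) :
    ((centralizer (H : Set G)).subgroupOf (normalizer (H : Set G))).Normal := by
  rw [← normalizerMonoidHom_ker]
  infer_instance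

/-- The automiser of `H` is a `π`-group iff the `π'`-elements normalising `H` centralise it. -/
theorem homog_iff : Homog π G ↔ ∀ H : Subgroup G, PiNum π (Nat.card H) → ∀ g ∈ normalizer (H : Set G),
    CoNum π (orderOf g) → g ∈ centralizer (H : Set G) := by
  constructor
  · intro hom H hH g hg hgo
    by_cases h1 : H = ⊥
    · exact mem_centralizer_iff.2 fun r hr => by rw [h1, SetLike.mem_coe, mem_bot] at hr; simp [hr]
    haveI := normal_centralizer_in_normalizer H
    have e : orderOf ((⟨g, hg⟩ : ↥(normalizer (H : Set G))) : ↥(normalizer (H : Set G)) ⧸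
        (centralizer (H : Set G)).subgroupOf (normalizer (H : Set G))) = 1 := by
      refine Nat.eq_one_of_dvd_coprimes (PiNum.coprime (hom H h1 hH) hgo) ?_ ?_
      · rw [relIndex, index_eq_card]
        exact orderOf_dvd_natCard _
      · exact (orderOf_map_dvd (QuotientGroup.mk' _) (⟨g, hg⟩ : ↥(normalizer (H : Set G)))).trans
          (Subgroup.orderOf_mk g hg).dvd
    rw [orderOf_eq_one_iff, QuotientGroup.eq_one_iff] at e
    exact mem_subgroupOf.1 e
  · intro hh H _ hH p hp hd
    by_contra hpπ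
    haveI : Fact p.Prime := ⟨hp⟩
    haveI := normal_centralizer_in_normalizer H
    rw [relIndex, index_eq_card] at hd
    obtain ⟨q, hq⟩ := exists_prime_orderOf_dvd_card' p hd
    obtain ⟨g, rfl⟩ := QuotientGroup.mk_surjective q
    obtain ⟨a, b, ha, hb, hab⟩ := exists_pi_split π (orderOf_pos g).ne'
    have h1 : g ^ a ∈ (centralizer (H : Set G)).subgroupOf (normalizer (H : Set G)) := by
      refine mem_subgroupOf.2 (hh H hH _ (g ^ a).2 (hb.of_dvd ?_))
      rw [orderOf_coe]
      exact orderOf_dvd_of_pow_eq_one (by rw [← pow_mul, ← hab, pow_orderOf_eq_one])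
    have h2 : orderOf (g : ↥(normalizer (H : Set G)) ⧸
        (centralizer (H : Set G)).subgroupOf (normalizer (H : Set G))) ∣ a :=
      orderOf_dvd_of_pow_eq_one (by rw [← QuotientGroup.mk_pow]; exact (QuotientGroup.eq_one_iff _).2 h1)
    exact hpπ (ha p hp (hq ▸ h2))

/-- Images of groups with normal Sylow 2-subgroups. -/
theorem normal_of_surjective {Y X : Type*} [Group Y] [Group X] [Finite Y] (f : Y →* X)
    (hf : Function.Surjective f) (hY : ∀ P : Sylow 2 Y, (P : Subgroup Y).Normal) (P : Sylow 2 X) :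
    (P : Subgroup X).Normal := by
  haveI : Fact (Nat.Prime 2) := ⟨Nat.prime_two⟩
  haveI : Finite X := Finite.of_surjective f hf
  obtain ⟨Q⟩ : Nonempty (Sylow 2 Y) := inferInstance
  have hn : ((Q.mapSurjective hf : Sylow 2 X) : Subgroup X).Normal := by
    rw [Sylow.coe_mapSurjective]
    exact (hY Q).map f hf
  haveI := Sylow.unique_of_normal (Q.mapSurjective hf) hn
  rwa [Subsingleton.elim P (Q.mapSurjective hf)]

theorem TwoClosed.subgroup (h : TwoClosed π G) (H : Subgroup G) : TwoClosed π ↥H := by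
  intro X hX
  let e := X.equivMapOfInjective H.subtype H.subtype_injective
  exact normal_of_surjective e.symm.toMonoidHom e.symm.surjective
    (h _ (by rwa [card_map_of_injective H.subtype_injective]))

theorem Homog.subgroup (h : Homog π G) (H : Subgroup G) : Homog π ↥H := by
  refine homog_iff.2 fun X hX g hg ho => mem_centralizer_iff.2 fun x hx => Subtype.ext ?_
  exact mem_centralizer_iff.1 (homog_iff.1 h (X.map H.subtype)
    (by rwa [card_map_of_injective H.subtype_injective]) g (le_normalizer_map H.subtype ⟨g, hg, rfl⟩)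
    (by rwa [orderOf_coe])) x ⟨x, hx, rfl⟩

/-- Subgroups of a quotient lift to `π`-subgroups with their normalisers. -/
def Lifts (π : Set ℕ) {G Q : Type*} [Group G] [Group Q] (f : G →* Q) : Prop :=
  ∀ X : Subgroup Q, PiNum π (Nat.card X) → ∃ Y : Subgroup G, PiNum π (Nat.card Y) ∧ Y.map f = X ∧
    ∀ x ∈ normalizer (X : Set Q), ∃ g ∈ normalizer (Y : Set G), f g = x

theorem twoClosed_of_lifts {Q : Type*} [Group Q] {f : G →* Q} (hl : Lifts π f) (h : TwoClosed π G) :
    TwoClosed π Q := by
  intro X hX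
  obtain ⟨Y, hY, rfl, -⟩ := hl X hX
  exact normal_of_surjective (f.subgroupMap Y) (f.subgroupMap_surjective Y) (h Y hY)

theorem homog_of_lifts {Q : Type*} [Group Q] [Finite Q] {f : G →* Q} (hl : Lifts π f) (h : Homog π G) :
    Homog π Q := by
  refine homog_iff.2 fun X hX x hx ho => ?_
  obtain ⟨Y, hY, rfl, hlift⟩ := hl X hX
  obtain ⟨g, hg, rfl⟩ := hlift x hx
  obtain ⟨a, b, ha, hb, hab⟩ := exists_pi_split π (orderOf_pos g).ne'
  refine mem_centralizer_iff.2 ?_
  rintro _ ⟨y, hy, rfl⟩
  have h1 : f g ^ a ∈ centralizer ({f y} : Set Q) := by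
    have h2 := homog_iff.1 h Y hY _ (pow_mem hg a)
      (hb.of_dvd (orderOf_dvd_of_pow_eq_one (by rw [← pow_mul, ← hab, pow_orderOf_eq_one])))
    rw [mem_centralizer_singleton_iff, ← map_pow, ← map_mul, ← map_mul, mem_centralizer_iff.1 h2 y hy]
  have h2 : f g ^ orderOf (f g) ∈ centralizer ({f y} : Set Q) := by rw [pow_orderOf_eq_one]; exact one_mem _
  exact (mem_centralizer_singleton_iff.1 (mem_of_pows (ha.coprime ho) h1 h2)).symm
where
  mem_of_pows {Q : Type _} [Group Q] {C : Subgroup Q} {g : Q} {a b : ℕ} (hab : a.Coprime b) (ha : g ^ a ∈ C)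
      (hb : g ^ b ∈ C) : g ∈ C := by
    obtain ⟨i, j, hij⟩ := hab.isCoprime
    rw [show g = (g ^ a) ^ i * (g ^ b) ^ j by
      rw [← zpow_natCast g a, ← zpow_natCast g b, ← zpow_mul, ← zpow_mul, ← zpow_add, mul_comm (a : ℤ),
        mul_comm (b : ℤ), hij, zpow_one]]
    exact mul_mem (zpow_mem ha i) (zpow_mem hb j)

theorem comap_normalizes {N : Subgroup G} [N.Normal] {X : Subgroup (G ⧸ N)} {g : G}
    (hx : (g : G ⧸ N) ∈ normalizer (X : Set (G ⧸ N))) :
    g ∈ normalizer ((X.comap (QuotientGroup.mk' N) : Subgroup G) : Set G) := by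
  refine mem_normalizer_iff.2 fun y => ?_
  simp only [mem_comap, map_mul, map_inv]
  exact mem_normalizer_iff.1 hx _

theorem lifts_of_pi {N : Subgroup G} [N.Normal] (hN : PiNum π (Nat.card N)) :
    Lifts π (QuotientGroup.mk' N) := by
  intro X hX
  refine ⟨X.comap (QuotientGroup.mk' N), ?_, map_comap_eq_self_of_surjective (QuotientGroup.mk'_surjective N) X,
    fun x hx => ?_⟩
  · intro p hp hd
    have h1 : Nat.card N * Nat.card X = Nat.card (X.comap (QuotientGroup.mk' N) : Subgroup G) := by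
      refine ((Nat.card_prod _ _).symm.trans ?_)
      exact (Nat.card_congr (QuotientGroup.preimageMkEquivSubgroupProdSet N (X : Set (G ⧸ N)))).symm
    rw [← h1] at hd
    exact (hp.dvd_mul.1 hd).elim (hN p hp) (hX p hp)
  · obtain ⟨g, rfl⟩ := QuotientGroup.mk'_surjective N x
    exact ⟨g, comap_normalizes hx, rfl⟩

theorem lifts_of_co {N : Subgroup G} [N.Normal] (hN : CoNum π (Nat.card N)) (hodd : Odd (Nat.card N)) :
    Lifts π (QuotientGroup.mk' N) := by
  intro X hX
  set Y := X.comap (QuotientGroup.mk' N) with hY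
  set q := (QuotientGroup.mk' N).subgroupComap X with hq
  have hqs : Function.Surjective q :=
    (QuotientGroup.mk' N).subgroupComap_surjective_of_surjective X (QuotientGroup.mk'_surjective N)
  have hker : q.ker = N.subgroupOf Y := by
    ext y
    rw [MonoidHom.mem_ker, mem_subgroupOf, ← QuotientGroup.eq_one_iff]
    exact ⟨fun e => congrArg Subtype.val e, fun e => Subtype.ext e⟩
  have hle : N ≤ Y := fun n hn => by
    rw [hY, mem_comap, show QuotientGroup.mk' N n = 1 from (QuotientGroup.eq_one_iff n).2 hn]; exact one_mem X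
  have hidx : q.ker.index = Nat.card X := by
    rw [index_ker, MonoidHom.range_eq_top.2 hqs, card_top]
  have hcop : (Nat.card q.ker).Coprime q.ker.index := by
    rw [hidx, hker, Nat.card_congr (subgroupOfEquivOfLe hle).toEquiv]
    exact (hX.coprime hN).symm
  obtain ⟨R, hR⟩ := exists_right_complement'_of_coprime (N := q.ker) hcop
  have hRc : Nat.card (R.map Y.subtype) = Nat.card X := by
    rw [card_map_of_injective Y.subtype_injective, ← hR.symm.index_eq_card, hidx]
  have hmap : (R.map Y.subtype).map (QuotientGroup.mk' N) = X := by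
    refine le_antisymm ?_ fun x hx => ?_
    · rintro _ ⟨_, ⟨r, hr, rfl⟩, rfl⟩
      exact r.2
    · obtain ⟨y, hy⟩ := hqs ⟨x, hx⟩
      obtain ⟨⟨⟨a, ha⟩, ⟨r, hr⟩⟩, hab⟩ := hR.2 y
      have h1 : q r = ⟨x, hx⟩ := by
        rw [← hy, ← show a * r = y from hab, map_mul, MonoidHom.mem_ker.1 ha, one_mul]
      exact ⟨r, ⟨r, hr, rfl⟩, congrArg Subtype.val h1⟩
  refine ⟨R.map Y.subtype, fun p hp hd => hX p hp (hRc ▸ hd), hmap, fun x hx => ?_⟩
  obtain ⟨g, rfl⟩ := QuotientGroup.mk'_surjective N x
  have hgY : g ∈ normalizer (Y : Set G) := comap_normalizes hx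
  have hsup : R.map Y.subtype ⊔ N = Y := by
    refine le_antisymm (sup_le (map_subtype_le _) hle) fun y hy => ?_
    obtain ⟨⟨⟨a, ha⟩, ⟨r, hr⟩⟩, hab⟩ := hR.2 ⟨y, hy⟩
    rw [← show (a : G) * r = y from congrArg Subtype.val hab]
    exact mul_mem (mem_sup_right (mem_subgroupOf.1 (hker ▸ ha))) (mem_sup_left ⟨r, hr, rfl⟩)
  obtain ⟨n, hn, hne⟩ := Core.exists_conj_eq_of_coprime (N := N) (H := R.map Y.subtype)
    (K := cj g (R.map Y.subtype)) le_normalizer_of_normal
    (by rw [hsup]; exact (cj_mono (map_subtype_le R)).trans (mem_normalizer_iff_cj.1 hgY).le)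
    (card_cj _ _) (by rw [hRc]; exact hX.coprime hN) (Or.inl (Cfsg.Agent.S0205.result hodd))
  refine ⟨n⁻¹ * g, mem_normalizer_iff_cj.2 ?_, ?_⟩
  · rw [cj_mul, ← hne]
    exact cj_inv_cj n _
  · rw [map_mul, map_inv, show QuotientGroup.mk' N n = 1 from (QuotientGroup.eq_one_iff n).2 hn, inv_one,
      one_mul]

end CfsgLib.PiHomog
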