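import Cfsg.Agent.Lib.PiHomog.Model
import Cfsg.Agent.Lib.PiHomog.Quot
import Cfsg.Agent.S0483

/-!
# S3258: `π`-homogeneous groups with normal Sylow 2-subgroups in the `π`-subgroups are `π'`-closed
-/

set_option autoImplicit false
set_option linter.unusedSectionVars false
set_option linter.style.haveILetI false

namespace CfsgLib.PiHomog

open Subgroup CfsgLib.CIT

universe u

variable {π : Set ℕ}

theorem Closed.mem_pc {G : Type*} [Group G] {H : Subgroup G} (hH : Closed π ↥H) {x : G} :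
    x ∈ pc π H ↔ x ∈ H ∧ CoNum π (orderOf x) := by
  obtain ⟨K, hK⟩ := hH
  have hle : pc π H ≤ K.map H.subtype := (closure_le _).2 fun y hy =>
    ⟨⟨y, hy.1⟩, (hK _).2 (by rw [Subgroup.orderOf_mk]; exact hy.2), rfl⟩
  refine ⟨fun hx => ?_, fun hx => mem_pc_of hx.1 hx.2⟩
  obtain ⟨⟨y, hy⟩, hyK, rfl⟩ := hle hx
  exact ⟨hy, by simpa [Subgroup.orderOf_mk] using (hK _).1 hyK⟩

/-- A group is closed if its `π'`-elements lie in a closed subgroup. -/
theorem closed_of_le {G : Type*} [Group G] {H : Subgroup G} (hH : Closed π ↥H)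
    (h : ∀ x : G, CoNum π (orderOf x) → x ∈ H) : Closed π G :=
  ⟨pc π H, fun x => hH.mem_pc.trans ⟨And.right, fun hx => ⟨h x hx, hx⟩⟩⟩

/-- No minimal group is simple. -/
theorem simple_false {G : Type u} [Group G] [Finite G] [IsSimpleGroup G] (h : Min π G) : False := by
  classical
  haveI : Fact (Nat.Prime 2) := ⟨Nat.prime_two⟩
  obtain ⟨P⟩ : Nonempty (Sylow 2 G) := inferInstance
  have hS := isSyl_top P
  have h3 := h.three_mem hS
  by_cases hno : ∀ v ∈ Vz (P : Subgroup G), v ≠ 1 → ∀ g ∈ normalizer ((P : Subgroup G) : Set G),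
      g * v = v * g → Odd (orderOf g) → g ∈ centralizer ((P : Subgroup G) : Set G)
  · rcases InvCent.rank_two_cases (fun X _ _ _ S n hn he => Cfsg.Agent.S0483.result S n hn he) h.na
      (h.twoNilpCent hS hno) h.rank_le_two with ⟨F, hF1, hF2, hq, he⟩ | he
    · exact @Min.not_psl_two _ _ _ _ h h3 F hF1 hF2 hq he
    · exact h.not_alt_seven h3 he
  · push Not at hno
    obtain ⟨v, hv, hv1, f, hf, hfv, hfo, hfc⟩ := hno
    exact h.five_false hS hv hv1 hf hfv hfo hfc

theorem closed_of_homog (h2 : 2 ∈ π) : ∀ (n : ℕ) (G : Type u) [Group G] [Finite G], Nat.card G = n →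
    TwoClosed π G → Homog π G → Closed π G := by
  intro n
  induction n using Nat.strong_induction_on with
  | _ n ih =>
  intro G _ _ hn hcl hom
  classical
  subst hn
  have hsub : ∀ H : Subgroup G, H ≠ ⊤ → Closed π ↥H := fun H hH =>
    ih _ (lt_of_le_of_ne (card_le_card_group H) fun e => hH (eq_top_of_card_eq H e)) ↥H rfl
      (hcl.subgroup H) (hom.subgroup H)
  by_cases hab : IsMulCommutative G
  · refine ⟨{ carrier := {x | CoNum π (orderOf x)}, one_mem' := by simpa using coNum_one,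
              mul_mem' := ?_, inv_mem' := fun {a} ha => by simpa using ha }, fun x => Iff.rfl⟩
    intro a b ha hb p hp hd
    have := hd.trans (Commute.orderOf_mul_dvd_mul_orderOf (hab.is_comm.comm a b))
    exact (hp.dvd_mul.1 this).elim (ha p hp) (hb p hp)
  by_cases hsimp : IsSimpleGroup G
  · exact (simple_false ⟨h2, hcl, hom, hab, hsub⟩).elim
  obtain ⟨N, hN, hNbot, hNtop⟩ : ∃ N : Subgroup G, N.Normal ∧ N ≠ ⊥ ∧ N ≠ ⊤ := by
    by_contra hno
    push Not at hno
    haveI : Nontrivial G := not_subsingleton_iff_nontrivial.1 fun hs =>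
      hab ⟨⟨fun a b => Subsingleton.elim _ _⟩⟩
    exact hsimp ⟨fun N hN => or_iff_not_imp_left.2 (hno N hN)⟩
  have hNcl := hsub N hNtop
  set K := pc π N with hKdef
  haveI hKn : K.Normal := normalizer_eq_top_iff.1 (top_le_iff.1
    ((normalizer_eq_top_iff.2 hN).ge.trans (normalizer_le_pc N)))
  have hKco : CoNum π (Nat.card K) := by
    intro p hp hd
    haveI : Fact p.Prime := ⟨hp⟩
    obtain ⟨x, hx⟩ := exists_prime_orderOf_dvd_card' p hd
    exact (hNcl.mem_pc.1 x.2).2 p hp (by rw [orderOf_coe, hx])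
  by_cases hK : K = ⊥
  · -- `N` is a `π`-group
    have hNπ : PiNum π (Nat.card N) := by
      intro p hp hd
      by_contra hpπ
      haveI : Fact p.Prime := ⟨hp⟩
      obtain ⟨x, hx⟩ := exists_prime_orderOf_dvd_card' p hd
      have h1 : (x : G) ∈ K := mem_pc_of x.2 (by
        rw [orderOf_coe, hx]
        intro r hr hrd
        rwa [(Nat.prime_dvd_prime_iff_eq hr hp).1 hrd])
      rw [hK, mem_bot] at h1
      rw [← orderOf_coe, h1, orderOf_one] at hx
      exact hp.ne_one hx.symm
    by_cases hC : centralizer (N : Set G) = ⊤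
    · -- `N` is central
      have hlt : Nat.card (G ⧸ N) < Nat.card G := by
        rw [card_eq_card_quotient_mul_card_subgroup N]
        exact lt_mul_of_one_lt_right Nat.card_pos (N.one_lt_card_iff_ne_bot.2 hNbot)
      obtain ⟨Kq, hKq⟩ := ih _ hlt (G ⧸ N) rfl (twoClosed_of_lifts (lifts_of_pi hNπ) hcl)
        (homog_of_lifts (lifts_of_pi hNπ) hom)
      have hJ : ∀ x : G, CoNum π (orderOf x) → x ∈ Kq.comap (QuotientGroup.mk' N) := fun x hx =>
        (hKq _).2 (hx.of_dvd (orderOf_map_dvd _ x))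
      by_cases hJtop : Kq.comap (QuotientGroup.mk' N) = ⊤
      · have hall : ∀ q : G ⧸ N, CoNum π (orderOf q) := fun q => by
          obtain ⟨x, rfl⟩ := QuotientGroup.mk'_surjective N q
          exact (hKq _).1 (hJtop ▸ mem_top x : x ∈ Kq.comap (QuotientGroup.mk' N))
        have hidx : CoNum π N.index := by
          intro p hp hd
          haveI : Fact p.Prime := ⟨hp⟩
          rw [index_eq_card] at hd
          obtain ⟨q, hq⟩ := exists_prime_orderOf_dvd_card' p hd
          exact hall q p hp (by rw [hq])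
        obtain ⟨C, hCc⟩ := exists_right_complement'_of_coprime (N := N) (hNπ.coprime hidx)
        haveI : C.Normal := ⟨fun c hc g => by
          obtain ⟨⟨⟨a, ha⟩, ⟨d, hd⟩⟩, hab'⟩ := hCc.2 g
          rw [← show a * d = g from hab']
          have hca : ∀ y : G, y * a = a * y := fun y =>
            (mem_centralizer_iff.1 (hC ▸ mem_top y : y ∈ centralizer (N : Set G)) a ha).symm
          rw [show a * d * c * (a * d)⁻¹ = a * (d * c * d⁻¹) * a⁻¹ by group, ← hca, mul_inv_cancel_right]
          exact mul_mem (mul_mem hd hc) (inv_mem hd)⟩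
        refine ⟨C, fun x => ⟨fun hx => ?_, fun hx => ?_⟩⟩
        · exact hidx.of_dvd ((Subgroup.orderOf_dvd_natCard C hx).trans hCc.symm.index_eq_card.symm.dvd)
        · refine (QuotientGroup.eq_one_iff x).1 (orderOf_eq_one_iff.1 ?_)
          refine Nat.eq_one_of_dvd_coprimes (hNπ.coprime hx) ?_ (orderOf_map_dvd (QuotientGroup.mk' C) x)
          rw [← hCc.index_eq_card, index_eq_card]
          exact orderOf_dvd_natCard _
      · exact closed_of_le (hsub _ hJtop) hJ
    · refine closed_of_le (hsub _ hC) fun x hx => ?_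
      exact homog_iff.1 hom N hNπ x (by rw [normalizer_eq_top_iff.2 hN]; trivial) hx
  · -- factor out `K`
    have hlt : Nat.card (G ⧸ K) < Nat.card G := by
      rw [card_eq_card_quotient_mul_card_subgroup K]
      exact lt_mul_of_one_lt_right Nat.card_pos (K.one_lt_card_iff_ne_bot.2 hK)
    have hl := lifts_of_co hKco (hKco.odd h2)
    obtain ⟨Kq, hKq⟩ := ih _ hlt (G ⧸ K) rfl (twoClosed_of_lifts hl hcl) (homog_of_lifts hl hom)
    refine ⟨Kq.comap (QuotientGroup.mk' K), fun x => ⟨fun hx => ?_, fun hx =>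
      (hKq _).2 (hx.of_dvd (orderOf_map_dvd _ x))⟩⟩
    intro p hp hd
    have h1 : x ^ orderOf (QuotientGroup.mk' K x) ∈ K := by
      rw [← QuotientGroup.eq_one_iff (N := K), QuotientGroup.mk_pow]
      exact pow_orderOf_eq_one _
    have h2' : orderOf x ∣ orderOf (QuotientGroup.mk' K x) * Nat.card K := by
      refine orderOf_dvd_of_pow_eq_one ?_
      rw [pow_mul]
      exact orderOf_dvd_iff_pow_eq_one.1 (Subgroup.orderOf_dvd_natCard K h1)
    exact (hp.dvd_mul.1 (hd.trans h2')).elim ((hKq _).1 hx p hp) (hKco p hp)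

theorem homog_of_closed {G : Type*} [Group G] [Finite G] (h : Closed π G) : Homog π G := by
  obtain ⟨K, hK⟩ := h
  refine homog_iff.2 fun H hH g hg ho => mem_centralizer_iff.2 fun r hr => ?_
  have hn : K.Normal := ⟨fun k hk x => (hK _).2 (by rw [Signalizer.orderOf_conj]; exact (hK k).1 hk)⟩
  have h1 : g * r * g⁻¹ * r⁻¹ ∈ K := by
    rw [show g * r * g⁻¹ * r⁻¹ = g * (r * g⁻¹ * r⁻¹) by group]
    exact mul_mem ((hK g).2 ho) (hn.conj_mem _ (inv_mem ((hK g).2 ho)) r)
  have h2 : g * r * g⁻¹ * r⁻¹ ∈ H := mul_mem ((mem_normalizer_iff.1 hg r).1 hr) (inv_mem hr)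
  have h3 := orderOf_eq_one_iff.1 (Nat.eq_one_of_dvd_coprimes (hH.coprime ((hK _).1 h1))
    (Subgroup.orderOf_dvd_natCard H h2) dvd_rfl)
  exact (mul_inv_eq_iff_eq_mul.1 (mul_inv_eq_one.1 h3)).symm

end CfsgLib.PiHomog
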