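import Cfsg.Agent.Lib.PiHomog.Five

/-!
# S3258: the groups `L₂(q)` and `A₇`

An element of odd order inverted by an involution has `π'`-order; in each of the two families this meets either
`3 ∈ π` or an element moving a `π`-subgroup.
-/

set_option autoImplicit false
set_option linter.unusedSectionVars false

namespace CfsgLib.PiHomog

open Subgroup Matrix
open CfsgLib.Signalizer (orderOf_eq_two_of)

variable {π : Set ℕ} {G : Type*} [Group G] [Finite G]

namespace Min

variable (h : Min π G)
include h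

theorem no_inverted_three (h3 : 3 ∈ π) {w x : G} (hw : w * w = 1) (hw1 : w ≠ 1) (hx : x ^ 3 = 1)
    (hx1 : x ≠ 1) (hinv : w * x * w⁻¹ = x⁻¹) : False := by
  haveI : Fact (Nat.Prime 3) := ⟨Nat.prime_three⟩
  have ho : orderOf x = 3 := orderOf_eq_prime hx hx1
  exact h.inverted (orderOf_eq_two_of hw1 hw) (by rw [ho]; decide) hinv 3 Nat.prime_three (by rw [ho]) h3

theorem not_alt_seven (h3 : 3 ∈ π) : ¬ Nonempty (G ≃* ↥(alternatingGroup (Fin 7))) := by
  rintro ⟨e⟩
  set x : ↥(alternatingGroup (Fin 7)) := ⟨Equiv.swap 0 1 * Equiv.swap 1 2, by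
    rw [Equiv.Perm.mem_alternatingGroup, map_mul, Equiv.Perm.sign_swap (by decide),
      Equiv.Perm.sign_swap (by decide)]; rfl⟩
  set w : ↥(alternatingGroup (Fin 7)) := ⟨Equiv.swap 0 1 * Equiv.swap 3 4, by
    rw [Equiv.Perm.mem_alternatingGroup, map_mul, Equiv.Perm.sign_swap (by decide),
      Equiv.Perm.sign_swap (by decide)]; rfl⟩
  have hww : w * w = 1 := Subtype.ext (by decide)
  have hw1 : w ≠ 1 := fun h' => absurd (congrArg Subtype.val h') (by decide)
  have hx3 : x ^ 3 = 1 := Subtype.ext (by decide)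
  have hx1 : x ≠ 1 := fun h' => absurd (congrArg Subtype.val h') (by decide)
  have hinv : w * x * w⁻¹ = x⁻¹ := Subtype.ext (by decide)
  refine h.no_inverted_three h3 (w := e.symm w) (x := e.symm x) ?_ ?_ ?_ ?_ ?_
  · rw [← map_mul, hww, map_one]
  · simpa using hw1
  · rw [← map_pow, hx3, map_one]
  · simpa using hx1
  · rw [← map_inv, ← map_inv, ← map_mul, ← map_mul, hinv]

theorem not_psl_two (h3 : 3 ∈ π) {F : Type} [Field F] [Fintype F] (hq : 3 < Fintype.card F) :
    ¬ Nonempty (G ≃* Matrix.ProjectiveSpecialLinearGroup (Fin 2) F) := by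
  classical
  rintro ⟨e⟩
  let f : Matrix.SpecialLinearGroup (Fin 2) F →* G :=
    e.symm.toMonoidHom.comp (QuotientGroup.mk' (center (Matrix.SpecialLinearGroup (Fin 2) F)))
  have hf1 : ∀ g : Matrix.SpecialLinearGroup (Fin 2) F, f g = 1 →
      g.1 0 1 = 0 ∧ g.1 1 0 = 0 ∧ g.1 0 0 = g.1 1 1 := by
    intro g hg
    have h1 : QuotientGroup.mk' (center (Matrix.SpecialLinearGroup (Fin 2) F)) g = 1 :=
      e.symm.injective (by rw [map_one]; exact hg)
    obtain ⟨r, -, hr⟩ := Matrix.SpecialLinearGroup.mem_center_iff.1 ((QuotientGroup.eq_one_iff g).1 h1)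
    rw [← hr]
    simp
  have hneg : ∀ g : Matrix.SpecialLinearGroup (Fin 2) F, g.1 0 0 + g.1 1 1 = 0 → f g * f g = 1 := by
    intro g hg
    rw [← map_mul]
    have h1 : g * g ∈ center (Matrix.SpecialLinearGroup (Fin 2) F) := by
      refine Matrix.SpecialLinearGroup.mem_center_iff.2 ⟨-1, by rw [Fintype.card_fin]; ring, ?_⟩
      have hd := g.2
      rw [det_fin_two] at hd
      ext i j
      fin_cases i <;> fin_cases j <;> simp [Matrix.mul_apply, Fin.sum_univ_two]
      · linear_combination hd - g.1 0 0 * hg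
      · linear_combination -(g.1 0 1) * hg
      · linear_combination -(g.1 1 0) * hg
      · linear_combination hd - g.1 1 1 * hg
    show e.symm _ = 1
    rw [QuotientGroup.mk'_apply, (QuotientGroup.eq_one_iff _).2 h1, map_one]
  have hinv : ∀ g k : Matrix.SpecialLinearGroup (Fin 2) F, g.1 0 0 + g.1 1 1 = 0 →
      (g * k).1 0 0 + (g * k).1 1 1 = 0 → f g * f k * (f g)⁻¹ = (f k)⁻¹ := by
    intro g k h1 h2
    have e1 := hneg _ h2
    rw [map_mul] at e1
    rw [inv_eq_of_mul_eq_one_right (hneg g h1)]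
    exact eq_inv_of_mul_eq_one_left (by rw [mul_assoc (f g * f k)]; exact e1)
  by_cases hc : ringChar F = 3
  · haveI : CharP F 3 := hc ▸ ringChar.charP F
    obtain ⟨n, hp3, hn⟩ := FiniteField.card F 3
    by_cases hi : IsSquare (-1 : F)
    · obtain ⟨i, hi⟩ := hi
      let g : Matrix.SpecialLinearGroup (Fin 2) F := ⟨!![i, 0; 0, -i], by rw [det_fin_two_of]; linear_combination -(-hi)⟩
      let u : Matrix.SpecialLinearGroup (Fin 2) F := ⟨!![1, 1; 0, 1], by rw [det_fin_two_of]; ring⟩
      have hg : g.1 0 0 + g.1 1 1 = 0 := by simp [g]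
      refine h.no_inverted_three h3 (hneg g hg) (fun e => ?_) (x := f u) ?_ (fun e => ?_)
        (hinv g u hg (by show (g.1 * u.1) 0 0 + (g.1 * u.1) 1 1 = 0; simp [g, u, Matrix.mul_apply, Fin.sum_univ_two]))
      · have h1 := (hf1 g e).2.2
        simp only [g, Matrix.of_apply, cons_val', cons_val_zero, cons_val_one] at h1
        have h2 : (1 : F) + 1 = 0 := by linear_combination (-i) * h1 - 2 * hi
        have h3' : ((3 : ℕ) : F) = 0 := CharP.cast_eq_zero F 3
        push_cast at h3'
        exact one_ne_zero (show (1 : F) = 0 by linear_combination h3' - h2)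
      · rw [← map_pow, show u ^ 3 = 1 from ?_, map_one]
        have h3' : ((3 : ℕ) : F) = 0 := CharP.cast_eq_zero F 3
        push_cast at h3'
        refine Subtype.ext ?_
        show u.1 ^ 3 = 1
        ext a b
        fin_cases a <;> fin_cases b <;> simp [u, pow_succ, Matrix.mul_apply, Fin.sum_univ_two]
        linear_combination h3'
      · exact one_ne_zero (show (1 : F) = 0 by simpa [u] using (hf1 u e).1)
    · -- `q ≡ 3` modulo `4`
      rw [FiniteField.isSquare_neg_one_iff, not_not] at hi
      obtain ⟨ℓ, hℓ, hℓd⟩ := Nat.exists_prime_and_dvd (n := (Fintype.card F - 1) / 2) (by omega)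
      haveI : Fact ℓ.Prime := ⟨hℓ⟩
      have hℓ2 : ℓ ≠ 2 := fun e' => by
        subst e'
        omega
      have hdvd : ℓ ∣ Nat.card Fˣ := by
        rw [Nat.card_units, Nat.card_eq_fintype_card]
        exact hℓd.trans (Nat.div_dvd_of_dvd (by omega))
      obtain ⟨t, ht⟩ := exists_prime_orderOf_dvd_card' ℓ hdvd
      have ht2 : ((t : F) * t) ≠ 1 := fun e' => by
        have : orderOf t ∣ 2 := orderOf_dvd_of_pow_eq_one (Units.ext (by rw [Units.val_pow_eq_pow_val, pow_two]; simpa using e'))
        rw [ht, Nat.prime_dvd_prime_iff_eq hℓ Nat.prime_two] at this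
        exact hℓ2 this
      let d : Matrix.SpecialLinearGroup (Fin 2) F := ⟨!![(t : F), 0; 0, ((t⁻¹ : Fˣ) : F)], by
        rw [det_fin_two_of]; simp⟩
      let w : Matrix.SpecialLinearGroup (Fin 2) F := ⟨!![0, 1; -1, 0], by rw [det_fin_two_of]; ring⟩
      have hd1 : f d ≠ 1 := fun e' => by
        have h1 : (t : F) = ((t⁻¹ : Fˣ) : F) := by simpa [d] using (hf1 d e').2.2
        exact ht2 (by
          calc (t : F) * t = (t : F) * ((t⁻¹ : Fˣ) : F) := by rw [← h1]
            _ = 1 := t.mul_inv)
      have hdℓ : f d ^ ℓ = 1 := by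
        rw [← map_pow, show d ^ ℓ = 1 from ?_, map_one]
        refine Subtype.ext ?_
        have hdiag : d.1 = diagonal ![(t : F), ((t⁻¹ : Fˣ) : F)] := by
          ext a b
          fin_cases a <;> fin_cases b <;> simp [d]
        rw [Matrix.SpecialLinearGroup.coe_pow, hdiag, diagonal_pow, Matrix.SpecialLinearGroup.coe_one, ← diagonal_one]
        congr 1
        ext a
        fin_cases a <;> simp [← Units.val_pow_eq_pow_val, inv_pow, ← ht, pow_orderOf_eq_one]
      have hdo : orderOf (f d) = ℓ := orderOf_eq_prime hdℓ hd1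
      have hw : w.1 0 0 + w.1 1 1 = 0 := by simp [w]
      have hw1 : f w ≠ 1 := fun e' => one_ne_zero (show (1 : F) = 0 by simpa [w] using (hf1 w e').1)
      have hwd := hinv w d hw (by show (w.1 * d.1) 0 0 + (w.1 * d.1) 1 1 = 0; simp [w, d, Matrix.mul_apply, Fin.sum_univ_two])
      have hℓπ := h.inverted (orderOf_eq_two_of hw1 (hneg w hw))
        (by rw [hdo]; exact hℓ.odd_of_ne_two hℓ2) hwd ℓ hℓ (by rw [hdo])
      -- the unipotent subgroup
      let u : Multiplicative F →* Matrix.SpecialLinearGroup (Fin 2) F :=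
        { toFun := fun c => ⟨!![1, c.toAdd; 0, 1], by rw [det_fin_two_of]; ring⟩
          map_one' := Subtype.ext (by ext a b; fin_cases a <;> fin_cases b <;> simp)
          map_mul' := fun a b => Subtype.ext (by
            show (!![1, (a * b).toAdd; 0, 1] : Matrix (Fin 2) (Fin 2) F) =
              !![1, a.toAdd; 0, 1] * !![1, b.toAdd; 0, 1]
            ext i j
            fin_cases i <;> fin_cases j <;> simp [Matrix.mul_apply, Fin.sum_univ_two, add_comm]) }
      set U := (f.comp u).range with hU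
      have hconj : ∀ c : F, d * u (Multiplicative.ofAdd c) = u (Multiplicative.ofAdd (t * t * c)) * d := by
        intro c
        refine Subtype.ext ?_
        show d.1 * !![1, c; 0, 1] = !![1, (t : F) * t * c; 0, 1] * d.1
        ext i j
        fin_cases i <;> fin_cases j <;> simp [d, Matrix.mul_apply, Fin.sum_univ_two]
        field_simp
      have hUπ : PiNum π (Nat.card U) := by
        intro p hp hpd
        have h1 := hpd.trans (Subgroup.card_range_dvd (f.comp u))
        rw [Nat.card_congr Multiplicative.toAdd, Nat.card_eq_fintype_card, hn] at h1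
        rw [(Nat.prime_dvd_prime_iff_eq hp Nat.prime_three).1 (hp.dvd_of_dvd_pow h1)]
        exact h3
      have hdU : f d ∈ normalizer (U : Set G) := by
        refine CIT.mem_normalizer_iff_cj.2 (eq_of_le_of_card_ge ?_ (CIT.card_cj _ _).ge)
        rintro _ ⟨_, ⟨c, rfl⟩, rfl⟩
        refine ⟨Multiplicative.ofAdd ((t : F) * t * c.toAdd), ?_⟩
        show f (u _) = f d * f (u c) * (f d)⁻¹
        rw [eq_mul_inv_iff_mul_eq, ← map_mul, ← map_mul, ← hconj, ofAdd_toAdd]
      have hU1 : f (u (Multiplicative.ofAdd 1)) ≠ 1 := fun e' =>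
        one_ne_zero (show (1 : F) = 0 from (hf1 _ e').1)
      refine hℓπ (h.mem_pi_of_moves (H := U) (fun e' => hU1 (mem_bot.1 (e' ▸ ⟨_, rfl⟩))) hUπ hdU (fun hc' => ?_)
        hℓ (k := 1) (by rw [hdo, pow_one]))
      have h1 : f (u (Multiplicative.ofAdd 1)) * f d = f d * f (u (Multiplicative.ofAdd 1)) :=
        mem_centralizer_iff.1 hc' _ ⟨_, rfl⟩
      rw [← map_mul f d, hconj, map_mul, mul_one] at h1
      have h2 : f (u (Multiplicative.ofAdd (1 - (t : F) * t))) = 1 := by
        rw [sub_eq_neg_add, ofAdd_add, map_mul, map_mul, mul_right_cancel h1, ← map_mul, ← map_mul,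
          ← ofAdd_add, neg_add_cancel, ofAdd_zero, map_one, map_one]
      exact ht2 (sub_eq_zero.1 (show (1 : F) - t * t = 0 from (hf1 _ h2).1)).symm
  · obtain ⟨a, b, hab⟩ : ∃ a b : F, a * a - a * b + b * b = -1 := by
      by_cases h2 : ringChar F = 2
      · haveI : CharP F 2 := h2 ▸ ringChar.charP F
        exact ⟨1, 0, by simp [CharTwo.neg_eq]⟩
      · have h2F : (2 : F) ≠ 0 := Ring.two_ne_zero h2
        have h3F : (3 : F) ≠ 0 := fun e' => hc (by
          have h1 : ringChar F ∣ 3 := ringChar.dvd (by exact_mod_cast e')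
          exact ((Nat.dvd_prime Nat.prime_three).1 h1).resolve_left (CharP.ringChar_ne_one))
        obtain ⟨u, v, huv⟩ := FiniteField.exists_root_sum_quadratic (R := F)
          (f := Polynomial.X ^ 2 + Polynomial.C 4) (g := Polynomial.C 3 * Polynomial.X ^ 2)
          (Polynomial.degree_X_pow_add_C two_pos 4) (Polynomial.degree_C_mul_X_pow 2 h3F)
          (FiniteField.odd_card_of_char_ne_two h2)
        simp only [Polynomial.eval_add, Polynomial.eval_pow, Polynomial.eval_X, Polynomial.eval_C,
          Polynomial.eval_mul] at huv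
        refine ⟨(u + v) / 2, v, ?_⟩
        field_simp
        linear_combination huv
    let x : Matrix.SpecialLinearGroup (Fin 2) F := ⟨!![0, 1; -1, -1], by rw [det_fin_two_of]; ring⟩
    let w : Matrix.SpecialLinearGroup (Fin 2) F :=
      ⟨!![a, b; b - a, -a], by rw [det_fin_two_of]; linear_combination -hab⟩
    have hw : w.1 0 0 + w.1 1 1 = 0 := by simp [w]
    refine h.no_inverted_three h3 (hneg w hw) (fun e' => ?_) (x := f x) ?_ (fun e' => ?_)
      (hinv w x hw (by show (w.1 * x.1) 0 0 + (w.1 * x.1) 1 1 = 0; simp [w, x, Matrix.mul_apply, Fin.sum_univ_two]))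
    · obtain ⟨h1, h2, -⟩ := hf1 w e'
      have hb : b = 0 := by simpa [w] using h1
      have ha : a = 0 := by simpa [w, hb] using h2
      rw [ha, hb] at hab
      exact one_ne_zero (show (1 : F) = 0 by linear_combination hab)
    · rw [← map_pow, show x ^ 3 = 1 from ?_, map_one]
      refine Subtype.ext ?_
      show x.1 ^ 3 = 1
      ext i j
      fin_cases i <;> fin_cases j <;> simp [x, pow_succ, Matrix.mul_apply, Fin.sum_univ_two]
    · exact one_ne_zero (show (1 : F) = 0 by simpa [x] using (hf1 x e').1)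

end Min

end CfsgLib.PiHomog
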