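import Cfsg.Agent.Lib.PiHomog.Kill
import Cfsg.Agent.S0217

/-!
# S3258: 2-rank at least three is impossible

The `π'`-parts of the centralisers of the elements of an elementary subgroup of order eight containing `V` form a
signalizer functor; the group generated by those attached to `V` is a `π'`-group and its normaliser carries `V`.
-/

set_option autoImplicit false
set_option linter.unusedSectionVars false
set_option linter.style.haveILetI false

namespace CfsgLib.PiHomog

open Subgroup CfsgLib.CIT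
open CfsgLib.Signalizer (orderOf_eq_two_of orderOf_conj)

variable {π : Set ℕ} {G : Type*} [Group G] [Finite G]

namespace Min

variable [IsSimpleGroup G] (h : Min π G)
include h

theorem sylow_ne_top {S : Subgroup G} (hS : IsSyl S ⊤) : S ≠ ⊤ := fun e => by
  haveI : Fact (Nat.Prime 2) := ⟨Nat.prime_two⟩
  have hG : IsPGroup 2 G := (e ▸ hS.2.1 : IsPGroup 2 (⊤ : Subgroup G)).of_equiv Subgroup.topEquiv
  haveI : Nontrivial G := by
    by_contra hn
    rw [not_nontrivial_iff_subsingleton] at hn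
    exact h.na ⟨⟨fun a b => Subsingleton.elim _ _⟩⟩
  haveI := hG.center_nontrivial
  exact (nontrivial_iff_ne_bot _).1 inferInstance h.center_eq_bot

theorem normalizer_sylow_ne_top {S : Subgroup G} (hS : IsSyl S ⊤) : normalizer (S : Set G) ≠ ⊤ :=
  h.normalizer_ne_top (h.sylow_ne_bot hS) (h.sylow_ne_top hS)

/-- A 2-rank at least three is impossible. -/
theorem rank_le_two : Cfsg.PRankLE 2 2 G := by
  classical
  haveI : Fact (Nat.Prime 2) := ⟨Nat.prime_two⟩
  intro A hAc hA2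
  by_contra hA4
  have hA : InvCent.Elem A := fun x hx => by rw [← pow_two]; exact hA2 x hx
  obtain ⟨S, hS, hAS⟩ := exists_isSyl (le_top : A ≤ ⊤) hA.isPGroup
  set V := Vz S with hV
  set E := A ⊔ V with hEdef
  have hEc : ∀ a ∈ A, ∀ v ∈ V, a * v = v * a := fun a ha v hv => hv.2.2 a (hAS ha)
  have hE : InvCent.Elem E := hA.sup (Vz_elem S) hEc
  have hVE : V ≤ E := le_sup_right
  have hE8 : 2 ^ 3 ≤ Nat.card E := by
    obtain ⟨n, hn⟩ := hA.isPGroup.exists_card_eq
    refine le_trans ?_ (card_le_of_le (le_sup_left : A ≤ E))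
    rw [hn] at hA4 ⊢
    refine Nat.pow_le_pow_right two_pos ?_
    by_contra hlt
    exact hA4 (Nat.pow_le_pow_right two_pos (by omega))
  set θ : G → Subgroup G := fun a => pc π (centralizer ({a} : Set G)) with hθ
  have hmem : ∀ {a x : G}, a ≠ 1 → (x ∈ θ a ↔ x ∈ centralizer ({a} : Set G) ∧ CoNum π (orderOf x)) :=
    fun ha => h.mem_pc (h.cent_ne_top ha)
  obtain ⟨hodd, -⟩ := Cfsg.Agent.S0217.result (p := 2) E (fun a ha b hb => hE.comm ha hb)
    (fun a ha => by rw [pow_two]; exact hE a ha) hE8 θ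
    (fun a _ _ => pc_le _)
    (fun a _ ha1 => (h.odd_pc (h.cent_ne_top ha1)).not_two_dvd_nat)
    (fun a ha _ b hb x hx => (mem_normalizer_iff.1 ((le_normalizer.trans (normalizer_le_pc _))
      (mem_centralizer_singleton_iff.2 (hE.comm hb ha))) x).1 hx)
    (fun a _ ha1 => Cfsg.Agent.S0205.result (h.odd_pc (h.cent_ne_top ha1)))
    (fun a _ ha1 b _ hb1 x hx => (hmem hb1).2 ⟨hx.2, ((hmem ha1).1 hx.1).2⟩)
  set W := ⨆ a : {a : G // a ∈ E ∧ a ≠ 1}, θ a with hW
  have hWtop : W ≠ ⊤ := fun e => by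
    rw [e, card_top] at hodd
    exact hodd (even_iff_two_dvd.1 h.even)
  -- the part attached to `V`
  set W0 := ⨆ v : {v : G // v ∈ V ∧ v ≠ 1}, θ v with hW0
  have hW0W : W0 ≤ W := iSup_le fun v => le_iSup (fun a : {a : G // a ∈ E ∧ a ≠ 1} => θ a) ⟨v, hVE v.2.1, v.2.2⟩
  have hθW0 : ∀ v ∈ V, v ≠ 1 → θ v ≤ W0 := fun v hv hv1 =>
    le_iSup (fun a : {a : G // a ∈ V ∧ a ≠ 1} => θ a) ⟨v, hv, hv1⟩
  have hW0top : W0 ≠ ⊤ := fun e => hWtop (top_le_iff.1 (e ▸ hW0W))
  have hnW0 : normalizer (S : Set G) ≤ normalizer (W0 : Set G) := by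
    have hle : ∀ n ∈ normalizer (S : Set G), cj n W0 ≤ W0 := fun n hn => by
      rw [hW0, CIT.cj, Subgroup.map_iSup]
      refine iSup_le fun v => ?_
      have hv' : n * v * n⁻¹ ∈ V := (h.closed_Vz hS v.2.1 ((mem_normalizer_iff.1 hn _).1 v.2.1.1)).1
      refine le_trans ?_ (hθW0 _ hv' fun e => v.2.2 (conj_eq_one_iff.1 e))
      show cj n (pc π (centralizer ({(v : G)} : Set G))) ≤ _
      rw [pc_cj]
      refine le_of_eq ?_
      rw [hθ]
      congr 1
      exact (InvCent.centralizer_conj n v).symm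
    intro n hn
    exact mem_normalizer_iff_cj.2 (eq_of_le_of_card_ge (hle n hn) (card_cj n W0).ge)
  -- the carrier
  have hfac : ∀ v ∈ V, v ≠ 1 → ∀ M : Subgroup G, normalizer (S : Set G) ≤ M → θ v ≤ M →
      centralizer ({v} : Set G) ≤ M := by
    intro v hv hv1 M hN hθM x hx
    have hSC : S ≤ centralizer ({v} : Set G) := fun s hs => mem_centralizer_singleton_iff.2 (hv.2.2 s hs)
    obtain ⟨k, hk, n, hn, rfl⟩ := h.exists_mul (h.cent_ne_top hv1) (syl_of_top hS hSC) hx
    exact mul_mem (hθM hk) (hN hn.2)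
  by_cases hbot : W0 = ⊥
  · exact h.no_carrier hS (h.normalizer_sylow_ne_top hS) le_rfl fun v hv hv1 =>
      hfac v hv hv1 _ le_rfl ((hθW0 v hv hv1).trans (hbot.le.trans bot_le))
  · exact h.no_carrier hS (h.normalizer_ne_top hbot hW0top) hnW0 fun v hv hv1 =>
      hfac v hv hv1 _ hnW0 ((hθW0 v hv hv1).trans le_normalizer)

/-- Every involution of `S` lies in `V`. -/
theorem involution_mem_Vz {S : Subgroup G} (hS : IsSyl S ⊤) {t : G} (ht : t ∈ S) (ht2 : t * t = 1) :
    t ∈ Vz S := by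
  classical
  set Z := zpowers t with hZ
  have hz : InvCent.Elem Z := fun z hz => by
    obtain ⟨i, rfl⟩ := mem_zpowers_iff.1 hz
    rw [← (Commute.refl t).mul_zpow, ht2, one_zpow]
  have hel : InvCent.Elem (Vz S ⊔ Z) := (Vz_elem S).sup hz fun a ha b hb =>
    (ha.2.2 b ((zpowers_le.2 ht) hb)).symm
  have h4 := h.rank_le_two (Vz S ⊔ Z) hel.isElementary.1 fun a ha => by rw [pow_two]; exact hel a ha
  rw [eq_of_le_of_card_ge (le_sup_left : Vz S ≤ Vz S ⊔ Z) (h4.trans (h.four_le_Vz hS))]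
  exact mem_sup_right (mem_zpowers t)

theorem card_Vz {S : Subgroup G} (hS : IsSyl S ⊤) : Nat.card (Vz S) = 4 :=
  le_antisymm (h.rank_le_two (Vz S) (Vz_elem S).isElementary.1 fun a ha => by
    rw [pow_two]; exact Vz_elem S a ha) (h.four_le_Vz hS)

end Min

end CfsgLib.PiHomog
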