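import Cfsg.Agent.Lib.PiHomog.RankThree
import Cfsg.Agent.Lib.InvCentTwoNilp.RankTwo

/-!
# S3258: the case of 2-rank two

`3` lies in `π`; either every involution centraliser has a normal 2-complement, or the Sylow 2-subgroups are of the
type of `U₃(4)` and an element of odd order fixes `V` pointwise and acts on `S`.
-/

set_option autoImplicit false
set_option linter.unusedSectionVars false
set_option linter.style.haveILetI false

namespace CfsgLib.PiHomog

open Subgroup CfsgLib.CIT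
open CfsgLib.Signalizer (involution_sq involution_inv involution_ne_one orderOf_eq_two_of orderOf_conj)
open CfsgLib.InvCent.UnitarySylow (U34)

variable {π : Set ℕ} {G : Type*} [Group G] [Finite G]

theorem mem_of_coprime_pows {C : Subgroup G} {g : G} {a b : ℕ} (hab : a.Coprime b) (ha : g ^ a ∈ C)
    (hb : g ^ b ∈ C) : g ∈ C := by
  obtain ⟨i, j, hij⟩ := hab.isCoprime
  rw [show g = (g ^ a) ^ i * (g ^ b) ^ j by
    rw [← zpow_natCast g a, ← zpow_natCast g b, ← zpow_mul, ← zpow_mul, ← zpow_add, mul_comm (a : ℤ),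
      mul_comm (b : ℤ), hij, zpow_one]]
  exact mul_mem (zpow_mem ha i) (zpow_mem hb j)

/-- A 2-element normalising a Sylow 2-subgroup lies in it. -/
theorem two_mem_syl {S : Subgroup G} (hS : IsSyl S ⊤) {g : G} (hg : g ∈ normalizer (S : Set G)) {n : ℕ}
    (hn : g ^ 2 ^ n = 1) : g ∈ S := by
  haveI : Fact (Nat.Prime 2) := ⟨Nat.prime_two⟩
  obtain ⟨j, -, hj⟩ := (Nat.dvd_prime_pow Nat.prime_two).1 (orderOf_dvd_of_pow_eq_one hn)
  have hP : IsPGroup 2 (zpowers g) := IsPGroup.of_card (n := j) (by rw [Nat.card_zpowers, hj])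
  obtain ⟨T, hT, hle⟩ := exists_isSyl (zpowers_le.2 hg) hP
  rw [(syl_of_top hS le_normalizer).unique le_rfl hT] at hle
  exact hle (mem_zpowers g)

/-- Odd elements of a normaliser of a four group fixing one involution of it centralise it. -/
theorem fix_four {V : Subgroup G} (hV : InvCent.Elem V) (h4 : Nat.card V = 4) {g v : G} (hv : v ∈ V)
    (hv1 : v ≠ 1) (hg : g ∈ normalizer (V : Set G)) (ho : Odd (orderOf g)) (hfix : g * v = v * g) :
    g ∈ centralizer (V : Set G) := by
  refine mem_centralizer_iff.2 fun w hw => ?_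
  have hgv : g * v * g⁻¹ = v := by rw [hfix, mul_inv_cancel_right]
  have hmem : ∀ u ∈ V, u ≠ 1 → u ≠ v → u = w ∨ u = v * w ∨ (w = 1 ∨ w = v) := by
    intro u hu hu1 huv
    by_contra hno
    push Not at hno
    obtain ⟨huw, huvw, hw1, hwv⟩ := hno
    have h5 : ({1, v, w, u} : Set G).ncard ≤ (V : Set G).ncard := Set.ncard_le_ncard (by
      rintro x (rfl | rfl | rfl | rfl)
      exacts [one_mem _, hv, hw, hu]) (Set.toFinite _)
    have hcard : ({1, v, w, u} : Set G).ncard = 4 := by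
      rw [Set.ncard_insert_of_notMem (by simp [hv1.symm, hw1.symm, hu1.symm]),
        Set.ncard_eq_three.2 ⟨v, w, u, hwv.symm, huv.symm, huw.symm, rfl⟩]
    have heq : ({1, v, w, u} : Set G) = (V : Set G) := Set.eq_of_subset_of_ncard_le (by
      rintro x (rfl | rfl | rfl | rfl)
      exacts [one_mem _, hv, hw, hu]) (by rw [hcard, ← Nat.card_coe_set_eq, SetLike.coe_sort_coe, h4]) (Set.toFinite _)
    have hvw : v * w ∈ ({1, v, w, u} : Set G) := heq ▸ mul_mem hv hw
    rcases hvw with e | e | e | e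
    · exact hwv (by rw [eq_inv_of_mul_eq_one_left e, inv_eq_of_mul_eq_one_right (hV w hw)])
    · exact hw1 (mul_eq_left.1 e)
    · exact hv1 (mul_eq_right.1 e)
    · exact huvw e.symm
  by_cases hw1 : w = 1
  · rw [hw1, one_mul, mul_one]
  by_cases hwv : w = v
  · rw [hwv]; exact hfix.symm
  have hgw : g * w * g⁻¹ ∈ V := (mem_normalizer_iff.1 hg w).1 hw
  rcases hmem _ hgw (fun e => hw1 (conj_eq_one_iff.1 e))
    (fun e => hwv (by rw [← hgv] at e; exact mul_left_cancel (mul_right_cancel e))) with e | e | e | e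
  · exact (mul_inv_eq_iff_eq_mul.1 e).symm
  · -- then `g ^ 2` centralises `w`, so does `g`
    have h2 : g ^ 2 * w * (g ^ 2)⁻¹ = w := by
      calc g ^ 2 * w * (g ^ 2)⁻¹ = g * (g * w * g⁻¹) * g⁻¹ := by rw [pow_two]; group
        _ = g * (v * w) * g⁻¹ := by rw [e]
        _ = (g * v * g⁻¹) * (g * w * g⁻¹) := by group
        _ = w := by rw [hgv, e, ← mul_assoc, hV v hv, one_mul]
    obtain ⟨k, hk⟩ := ho
    have h3 : g ∈ centralizer ({w} : Set G) := by
      refine mem_of_coprime_pows (a := 2) (b := orderOf g) ?_ ?_ (by rw [pow_orderOf_eq_one]; exact one_mem _)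
      · exact Nat.coprime_two_left.2 ⟨k, hk⟩
      · exact mem_centralizer_singleton_iff.2 (mul_inv_eq_iff_eq_mul.1 h2)
    exact (mem_centralizer_singleton_iff.1 h3).symm
  · exact absurd e hw1
  · exact absurd e hwv

/-- The 24-th power of an element normalising a four group centralises it. -/
theorem pow_four {V : Subgroup G} (h4 : Nat.card V = 4) {g : G} (hg : g ∈ normalizer (V : Set G)) :
    g ^ 24 ∈ centralizer (V : Set G) := by
  classical
  haveI := Fintype.ofFinite V
  set f : ↥(normalizer (V : Set G)) →* Equiv.Perm ↥V :=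
    (MulAut.toPerm _).comp V.normalizerMonoidHom with hf
  have h1 : f ⟨g, hg⟩ ^ 24 = 1 := by
    have h24 : Fintype.card (Equiv.Perm ↥V) = 24 := by
      rw [Fintype.card_perm, ← Nat.card_eq_fintype_card, h4]; rfl
    rw [← h24]
    exact pow_card_eq_one
  rw [← map_pow] at h1
  refine mem_centralizer_iff.2 fun w hw => ?_
  have h2 := congrArg (fun e : Equiv.Perm ↥V => ((e ⟨w, hw⟩ : ↥V) : G)) h1
  have h3 : g ^ 24 * w * (g ^ 24)⁻¹ = w := h2
  exact (mul_inv_eq_iff_eq_mul.1 h3).symm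

namespace Min

variable [IsSimpleGroup G] (h : Min π G) {S : Subgroup G} (hS : IsSyl S ⊤)
include h hS

theorem norm_le_norm_Vz : normalizer (S : Set G) ≤ normalizer (Vz S : Set G) := by
  have hle : ∀ n ∈ normalizer (S : Set G), cj n (Vz S) ≤ Vz S := by
    rintro n hn _ ⟨v, hv, rfl⟩
    exact (h.closed_Vz hS hv ((mem_normalizer_iff.1 hn v).1 hv.1)).1
  intro n hn
  exact mem_normalizer_iff_cj.2 (eq_of_le_of_card_ge (hle n hn) (card_cj n _).ge)

theorem le_cent_Vz : S ≤ centralizer (Vz S : Set G) :=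
  fun s hs => mem_centralizer_iff.2 fun v hv => (hv.2.2 s hs).symm

/-- `3` lies in `π`. -/
theorem three_mem : 3 ∈ π := by
  classical
  have h4 := h.card_Vz hS
  obtain ⟨v, hv, hv1⟩ : ∃ v ∈ Vz S, v ≠ 1 := (Vz S).bot_or_exists_ne_one.resolve_left fun e => by
    rw [e, card_bot] at h4; omega
  have hv2 : orderOf v = 2 := orderOf_eq_two_of hv1 hv.2.1
  have hO : Cfsg.oddCore G = ⊥ := by
    rcases (inferInstance : (Cfsg.oddCore G).Normal).eq_bot_or_eq_top with e | e
    · exact e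
    · have := ZStar.odd_card_oddCore G
      rw [e, card_top] at this
      exact absurd h.even (Nat.not_even_iff_odd.2 this)
  have hniso : ¬ Cfsg.IsIsolatedInvolution v := fun hiso => by
    refine hv1 (mem_bot.1 (h.center_eq_bot ▸ mem_center_iff.2 fun g => ?_))
    have h1 := ZStar.mem_oddCore_of_isolated hiso g
    rw [hO, mem_bot, mul_inv_eq_one, mul_inv_eq_iff_eq_mul] at h1
    exact h1.symm
  obtain ⟨g, hgc, hgne⟩ : ∃ g : G, Commute v (g * v * g⁻¹) ∧ g * v * g⁻¹ ≠ v := by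
    by_contra hno
    push Not at hno
    exact hniso ⟨hv2, hno⟩
  obtain ⟨x, hx1, hx2⟩ := h.exists_common hS (a := v) (b := g * v * g⁻¹) (c := 1) (c' := g) hv hv
    (by group) rfl hgc
  obtain ⟨-, n, hn, hne⟩ := h.closed_Vz hS hx1 (g := x⁻¹ * g * x) (by
    rw [show x⁻¹ * g * x * (x⁻¹ * v * x) * (x⁻¹ * g * x)⁻¹ = x⁻¹ * (g * v * g⁻¹) * x by group]
    exact hx2.1)
  have hnV := h.norm_le_norm_Vz hS hn
  have hnc : n ∉ centralizer (Vz S : Set G) := fun hc => hgne (by
    have h1 : n * (x⁻¹ * v * x) * n⁻¹ = x⁻¹ * v * x := by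
      rw [← mem_centralizer_iff.1 hc _ hx1, mul_inv_cancel_right]
    rw [h1] at hne
    calc g * v * g⁻¹ = x * (x⁻¹ * g * x * (x⁻¹ * v * x) * (x⁻¹ * g * x)⁻¹) * x⁻¹ := by group
      _ = v := by rw [hne]; group)
  obtain ⟨b, r, hr, ho⟩ := Nat.exists_eq_pow_mul_and_not_dvd (orderOf_pos n).ne' 3 (by norm_num)
  have hr0 : r ≠ 0 := fun e => hr (by simp [e])
  obtain ⟨a, m, hm, hrm⟩ := Nat.exists_eq_two_pow_mul_odd hr0
  refine h.mem_pi_of_moves (H := Vz S) (fun e => hv1 (mem_bot.1 (e ▸ hv))) (fun p hp hd => ?_)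
    (pow_mem hnV r) (fun hy => hnc ?_) (p := 3) (k := b) Nat.prime_three ?_
  · rw [h4, show (4 : ℕ) = 2 ^ 2 from rfl] at hd
    rw [(Nat.prime_dvd_prime_iff_eq hp Nat.prime_two).1 (hp.dvd_of_dvd_pow hd)]
    exact h.two
  · have hx' : n ^ 3 ^ b ∈ centralizer (Vz S : Set G) := by
      refine mem_of_coprime_pows (a := 24) (b := m) ?_ (pow_four h4 (pow_mem hnV _))
        (h.le_cent_Vz hS (two_mem_syl hS (pow_mem (pow_mem hn _) _) (n := a) ?_))
      · refine (Nat.Coprime.pow_left 3 (Nat.coprime_two_left.2 hm)).mul_left (n := 3) ?_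
        exact (Nat.prime_three.coprime_iff_not_dvd.2 fun h3 => hr (hrm ▸ h3.mul_left _))
      · rw [← pow_mul, ← pow_mul, ← mul_assoc, show 3 ^ b * m * 2 ^ a = 3 ^ b * r by rw [hrm]; ring, ← ho,
          pow_orderOf_eq_one]
    exact mem_of_coprime_pows ((Nat.prime_three.coprime_iff_not_dvd.2 hr).pow_left b) hx' hy
  · rw [orderOf_pow_of_dvd hr0 (ho ▸ dvd_mul_left _ _), ho, Nat.mul_div_cancel _ (Nat.pos_of_ne_zero hr0)]

/-- Every involution centraliser has a normal 2-complement if no odd element fixing an involution moves `S`. -/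
theorem twoNilpCent (hno : ∀ v ∈ Vz S, v ≠ 1 → ∀ g ∈ normalizer (S : Set G), g * v = v * g →
    Odd (orderOf g) → g ∈ centralizer (S : Set G)) : InvCent.TwoNilpCent G := by
  classical
  haveI : Fact (Nat.Prime 2) := ⟨Nat.prime_two⟩
  have key : ∀ v ∈ Vz S, v ≠ 1 → Cfsg.HasNormalPComplement 2 ↥(centralizer ({v} : Set G)) := by
    intro v hv hv1
    set C := centralizer ({v} : Set G) with hC
    have hCtop := h.cent_ne_top hv1
    have hSC : S ≤ C := fun s hs => mem_centralizer_singleton_iff.2 (hv.2.2 s hs)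
    have hT := syl_of_top hS hSC
    set N := C ⊓ normalizer (S : Set G) with hN
    have hSN : S ≤ N := le_inf hSC le_normalizer
    haveI : (S.subgroupOf N).Normal := normal_subgroupOf_of_le_normalizer inf_le_right
    obtain ⟨P, hP⟩ := (syl_of_top hS hSN).subgroupOf
    have hidx : ¬ 2 ∣ (S.subgroupOf N).index := by
      have : (P : Subgroup ↥N) = S.subgroupOf N := by
        rw [← hP]; exact (comap_map_eq_self_of_injective (subtype_injective N) _).symm
      rw [← this]
      exact P.not_dvd_index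
    obtain ⟨n, hn⟩ := hS.2.1.exists_card_eq
    obtain ⟨R, hR⟩ := exists_right_complement'_of_coprime (N := S.subgroupOf N) (by
      rw [Nat.card_congr (subgroupOfEquivOfLe hSN).toEquiv, hn]
      exact (Nat.prime_two.coprime_iff_not_dvd.2 hidx).pow_left n)
    set Rg := R.map N.subtype with hRg
    have hRodd : Odd (Nat.card Rg) := by
      rw [card_map_of_injective (subtype_injective N), ← hR.symm.index_eq_card, ← Nat.not_even_iff_odd,
        even_iff_two_dvd]
      exact hidx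
    have hRN : Rg ≤ N := map_subtype_le R
    have hRcent : Rg ≤ centralizer (S : Set G) := fun x hx => hno v hv hv1 x (hRN hx).2
      (mem_centralizer_singleton_iff.1 (hRN hx).1) (hRodd.of_dvd_nat (orderOf_dvd_natCard _ hx))
    have hCn : C ≤ normalizer (pc π C : Set G) := le_normalizer.trans (normalizer_le_pc C)
    set O := Rg ⊔ pc π C with hO
    have hRgC : Rg ≤ C := hRN.trans inf_le_left
    have hOC : O ≤ C := sup_le hRgC (pc_le C)
    have hOodd : Odd (Nat.card O) :=
      (hRodd.mul (h.odd_pc hCtop)).of_dvd_nat (Core.card_sup_dvd _ _ (hRgC.trans hCn))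
    have hdec : ∀ x ∈ C, ∃ k ∈ pc π C, ∃ s ∈ S, ∃ r ∈ Rg, x = k * s * r := by
      intro x hx
      obtain ⟨k, hk, y, hy, rfl⟩ := h.exists_mul hCtop hT hx
      obtain ⟨⟨⟨s, hs⟩, ⟨r, hr⟩⟩, hsr⟩ := hR.2 ⟨y, hy⟩
      have e : (s : G) * (r : G) = y := congrArg Subtype.val hsr
      exact ⟨k, hk, s, mem_subgroupOf.1 hs, r, ⟨r, hr, rfl⟩, by rw [← e]; group⟩
    have hSO : S ≤ normalizer (O : Set G) := fun s hs => by
      rw [mem_normalizer_iff_cj, hO, CIT.cj, Subgroup.map_sup]
      refine congrArg₂ (· ⊔ ·) ?_ (mem_normalizer_iff_cj.1 (hCn (hSC hs)))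
      refine mem_normalizer_iff_cj.1 (centralizer_le_normalizer _ ?_)
      exact mem_centralizer_iff.2 fun r hr => (mem_centralizer_iff.1 (hRcent hr) s hs).symm
    have hOn : C ≤ normalizer (O : Set G) := by
      intro x hx
      obtain ⟨k, hk, s, hs, r, hr, rfl⟩ := hdec x hx
      exact mul_mem (mul_mem (le_normalizer (mem_sup_right hk)) (hSO hs)) (le_normalizer (mem_sup_left hr))
    haveI : (O.subgroupOf C).Normal := normal_subgroupOf_of_le_normalizer hOn
    refine Transfer.hasNormalPComplement_iff_exists.2 ⟨O.subgroupOf C, inferInstance, ?_, ?_⟩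
    · rw [Nat.card_congr (subgroupOfEquivOfLe hOC).toEquiv]
      exact Nat.coprime_two_right.2 hOodd
    · intro q
      obtain ⟨⟨x, hx⟩, rfl⟩ := QuotientGroup.mk_surjective q
      obtain ⟨k, hk, s, hs, r, hr, rfl⟩ := hdec x hx
      obtain ⟨j, hj⟩ := hS.2.1 ⟨s, hs⟩
      refine ⟨j, ?_⟩
      have e : (⟨k * s * r, hx⟩ : ↥C) = ⟨k, pc_le C hk⟩ * ⟨s, hSC hs⟩ * ⟨r, hRgC hr⟩ := rfl
      rw [e, QuotientGroup.mk_mul, QuotientGroup.mk_mul,
        (QuotientGroup.eq_one_iff (⟨k, pc_le C hk⟩ : ↥C)).2 (mem_subgroupOf.2 (mem_sup_right hk)),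
        (QuotientGroup.eq_one_iff (⟨r, hRgC hr⟩ : ↥C)).2 (mem_subgroupOf.2 (mem_sup_left hr)),
        one_mul, mul_one, ← QuotientGroup.mk_pow]
      rw [show (⟨s, hSC hs⟩ : ↥C) ^ 2 ^ j = 1 from Subtype.ext (congrArg Subtype.val hj :), QuotientGroup.mk_one]
  intro t ht
  obtain ⟨T, hT, htT⟩ := exists_isSyl (le_top : zpowers t ≤ ⊤)
    (IsPGroup.of_card (p := 2) (n := 1) (by rw [Nat.card_zpowers, ht, pow_one]))
  obtain ⟨c, -, hc⟩ := hT.exists_conj hS
  have h1 : c * t * c⁻¹ ∈ S := hc ▸ conj_mem_cj.2 (htT (mem_zpowers t))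
  have h2 : orderOf (c * t * c⁻¹) = 2 := (orderOf_conj c t).trans ht
  have h3 := key _ (h.involution_mem_Vz hS h1 (involution_sq h2)) (involution_ne_one h2)
  refine Transfer.hasNormalPComplement_of_injective
    ((MulAut.conj c).toMonoidHom.comp (centralizer ({t} : Set G)).subtype |>.codRestrict
      (centralizer ({c * t * c⁻¹} : Set G)) fun x => ?_) ?_ h3
  · rw [InvCent.centralizer_conj]
    exact ⟨x, x.2, rfl⟩
  · intro a b e
    exact Subtype.ext ((MulAut.conj c).injective (congrArg Subtype.val e :))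

/-- With a moving element the Sylow 2-subgroup is of the type of `U₃(4)`. -/
theorem u34_of_moves {v g : G} (hv : v ∈ Vz S) (hv1 : v ≠ 1) (hg : g ∈ normalizer (S : Set G))
    (hgv : g * v = v * g) (hgo : Odd (orderOf g)) (hgc : g ∉ centralizer (S : Set G)) :
    g ∈ centralizer (Vz S : Set G) ∧ U34 ↥S := by
  classical
  haveI : Fact (Nat.Prime 2) := ⟨Nat.prime_two⟩
  have hgV := fix_four (Vz_elem S) (h.card_Vz hS) hv hv1 (h.norm_le_norm_Vz hS hg) hgo hgv
  refine ⟨hgV, ?_⟩
  have hne : Vz S ≠ S := fun e => hgc (by rwa [e] at hgV)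
  have hcomm : ∀ a b : ↥S, a * a = 1 → b * a = a * b := fun a b ha =>
    Subtype.ext ((h.involution_mem_Vz hS a.2 (congrArg Subtype.val ha)).2.2 b b.2)
  obtain ⟨P, hP⟩ := (syl_of_top hS (le_top : S ≤ ⊤)).subgroupOf
  let Sy : Sylow 2 G := ⟨S, hS.2.1, fun {Q} h2 h1 => hS.2.2 Q h1 le_top h2⟩
  let _ : Fintype (GaloisField 2 4) := Fintype.ofFinite _
  have hF : Fintype.card (GaloisField 2 4) = 16 := by
    rw [← Nat.card_eq_fintype_card, GaloisField.card 2 4 (by norm_num)]; norm_num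
  obtain ⟨PU⟩ : Nonempty (Sylow 2 (Cfsg.PSU 3 (GaloisField 2 4) 4)) := inferInstance
  rcases Cfsg.Agent.S0516.result h.na h.rank_le_two Sy hF PU with ⟨k, hk, ⟨e⟩⟩ | hq | hw | ⟨⟨e⟩⟩
  · exfalso
    have h1 : e.symm (DihedralGroup.sr 0) * e.symm (DihedralGroup.sr 0) = 1 := by
      rw [← map_mul, DihedralGroup.sr_mul_self, map_one]
    have h2 := congrArg e (hcomm (e.symm (DihedralGroup.sr 0)) (e.symm (DihedralGroup.r 1)) h1)
    rw [map_mul, map_mul, e.apply_symm_apply, e.apply_symm_apply, DihedralGroup.r_mul_sr,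
      DihedralGroup.sr_mul_r, DihedralGroup.sr.injEq] at h2
    have h3 : ((2 : ℕ) : ZMod k) = 0 := by
      push_cast
      linear_combination -h2
    rw [ZMod.natCast_eq_zero_iff] at h3
    obtain rfl : k = 2 := le_antisymm (Nat.le_of_dvd two_pos h3) hk
    have h4 : Nat.card ↥S = 4 := (Nat.card_congr e.toEquiv).trans DihedralGroup.nat_card
    exact hne (eq_of_le_of_card_ge (Vz_le S) (by rw [h4, h.card_Vz hS]))
  · exfalso
    obtain ⟨n, hn, -, x, y, hx, hy, he⟩ := hq
    rw [← hcomm y x (involution_sq hy), mul_inv_cancel_right] at he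
    have hlt : 2 ^ (n - 1) - 1 < 2 ^ n := by
      have := Nat.pow_le_pow_right two_pos (show n - 1 ≤ n by omega)
      have := Nat.one_le_two_pow (n := n - 1)
      omega
    have h1 : (1 : ℕ) = 2 ^ (n - 1) - 1 := pow_injOn_Iio_orderOf
      (Set.mem_Iio.2 (by rw [hx]; exact Nat.one_lt_two_pow (by omega)))
      (Set.mem_Iio.2 (by rw [hx]; exact hlt)) (by simpa using he)
    have := Nat.pow_le_pow_right two_pos (show 2 ≤ n - 1 by omega)
    norm_num at this
    omega
  · exfalso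
    obtain ⟨n, hn, -, x, y, z, hx, -, hxy, hz, he⟩ := hw
    rw [← hcomm z x (involution_sq hz), mul_inv_cancel_right] at he
    have h1 : x ∈ zpowers x ⊓ zpowers y := ⟨mem_zpowers x, he ▸ mem_zpowers x⟩
    rw [hxy, mem_bot] at h1
    rw [h1, orderOf_one] at hx
    exact absurd hx.symm (Nat.one_lt_two_pow (by omega)).ne'
  · exact (InvCent.UnitarySylow.u34_sylow hF PU).of_equiv e

end Min

end CfsgLib.PiHomog
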